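import Mathlib
import Cfsg.Agent.Lib.ClassSize.ThreeSizesBasic
import Cfsg.Agent.Lib.ClassSize.SylowCentralizer
import Cfsg.Agent.Lib.FGStruct.ItoTwoSizes
import Cfsg.Agent.Lib.FGStruct.Dedekind
import Cfsg.Agent.Lib.Char.Burnside
import Cfsg.Agent.Lib.Components.Subnormal
import Cfsg.Agent.S4037

/-!
# Groups with three class sizes: centralisers of primary elements

`Blk G q` says that commuting noncentral elements of prime power order, for primes other than `q`,
have equal centralisers.  Then the `t`-elements commuting with such an element `u` form a subgroup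
`tp t u`, the Sylow `t`-subgroup of the centraliser, which is abelian.
-/

set_option autoImplicit false
set_option linter.style.haveILetI false
set_option linter.unusedSectionVars false

namespace CfsgLib.ThreeClass

open Subgroup CfsgLib.ClassSize.Three

variable {G : Type*} [Group G]

/-- A `t`-element. -/
def Tel (t : ℕ) (g : G) : Prop := ∃ k : ℕ, g ^ t ^ k = 1

/-- `g` fixes `x` modulo the centre. -/
def Fix (g x : G) : Prop := g * x * g⁻¹ * x⁻¹ ∈ center G

theorem Tel.one (t : ℕ) : Tel t (1 : G) := ⟨0, one_pow _⟩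

theorem Tel.mul {t : ℕ} {g h : G} (hg : Tel t g) (hh : Tel t h) (hc : Commute g h) : Tel t (g * h) := by
  obtain ⟨a, ha⟩ := hg
  obtain ⟨b, hb⟩ := hh
  refine ⟨a + b, ?_⟩
  rw [hc.mul_pow, pow_add, pow_mul, ha, one_pow, one_mul, mul_comm, pow_mul, hb, one_pow]

theorem Tel.inv {t : ℕ} {g : G} (hg : Tel t g) : Tel t g⁻¹ := by
  obtain ⟨a, ha⟩ := hg
  exact ⟨a, by rw [inv_pow, ha, inv_one]⟩

theorem Tel.conj {t : ℕ} {g : G} (hg : Tel t g) (h : G) : Tel t (h * g * h⁻¹) := by
  obtain ⟨a, ha⟩ := hg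
  exact ⟨a, by rw [conj_pow, ha, mul_one, mul_inv_cancel]⟩

theorem Tel.exists_orderOf {t : ℕ} [Fact t.Prime] {g : G} (hg : Tel t g) :
    ∃ k, orderOf g = t ^ k := by
  obtain ⟨a, ha⟩ := hg
  obtain ⟨i, -, hi⟩ := (Nat.dvd_prime_pow Fact.out).1 (orderOf_dvd_of_pow_eq_one ha)
  exact ⟨i, hi⟩

theorem tel_of_orderOf {t k : ℕ} {g : G} (h : orderOf g = t ^ k) : Tel t g :=
  ⟨k, by rw [← h, pow_orderOf_eq_one]⟩

theorem tel_of_mem {t : ℕ} {P : Subgroup G} (hP : IsPGroup t P) {g : G} (hg : g ∈ P) : Tel t g := by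
  obtain ⟨k, hk⟩ := hP ⟨g, hg⟩
  exact ⟨k, congrArg Subtype.val hk⟩

theorem isPGroup_of_tel {t : ℕ} {P : Subgroup G} (h : ∀ g ∈ P, Tel t g) : IsPGroup t P := by
  rintro ⟨g, hg⟩
  obtain ⟨k, hk⟩ := h g hg
  exact ⟨k, Subtype.ext hk⟩

theorem orderOf_coprime {t r : ℕ} [Fact t.Prime] [Fact r.Prime] (htr : t ≠ r) {g h : G}
    (hg : Tel t g) (hh : Tel r h) : (orderOf g).Coprime (orderOf h) := by
  obtain ⟨a, ha⟩ := hg.exists_orderOf
  obtain ⟨b, hb⟩ := hh.exists_orderOf
  rw [ha, hb]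
  exact Nat.Coprime.pow a b ((Nat.coprime_primes Fact.out Fact.out).2 htr)

theorem eq_one_of_tel {t r : ℕ} [Fact t.Prime] [Fact r.Prime] (htr : t ≠ r) {g : G}
    (hg : Tel t g) (hg' : Tel r g) : g = 1 :=
  orderOf_eq_one_iff.1 ((Nat.coprime_self _).1 (orderOf_coprime htr hg hg'))

/-- An element fixing a coprime element modulo the centre commutes with it. -/
theorem Fix.commute [Finite G] {g x : G} (h : Fix g x) (hc : (orderOf g).Coprime (orderOf x)) : Commute g x :=
  CfsgLib.FGStruct.ItoTwoSizes.commute_of_commutator_central hc h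

theorem Fix.of_commute {g x : G} (h : Commute g x) : Fix g x := by
  have e : g * x * g⁻¹ * x⁻¹ = 1 := by rw [h.eq]; group
  show g * x * g⁻¹ * x⁻¹ ∈ center G
  rw [e]; exact one_mem _

theorem Fix.symm {g x : G} (h : Fix g x) : Fix x g := by
  show x * g * x⁻¹ * g⁻¹ ∈ center G
  rw [show x * g * x⁻¹ * g⁻¹ = (g * x * g⁻¹ * x⁻¹)⁻¹ by group]
  exact inv_mem h

theorem fix_iff {g x : G} : Fix g x ↔ ∃ c ∈ center G, g * x * g⁻¹ = c * x := by
  constructor
  · intro h
    exact ⟨_, h, by group⟩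
  · rintro ⟨c, hc, he⟩
    show g * x * g⁻¹ * x⁻¹ ∈ center G
    rw [he, mul_inv_cancel_right]
    exact hc

theorem Cz_center_mul {c : G} (hc : c ∈ center G) (x : G) : Cz (c * x) = Cz x := by
  ext g
  simp only [mem_Cz]
  have hgc : Commute g c := mem_center_iff.1 hc g
  constructor
  · intro h
    have := hgc.inv_right.mul_right h
    rwa [inv_mul_cancel_left] at this
  · intro h
    exact hgc.mul_right h

/-- Conjugation by `g` fixes the centraliser. -/
theorem normalizer_of_Cz {g x : G} (h : Cz (g * x * g⁻¹) = Cz x) :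
    g ∈ normalizer (Cz x : Set G) := by
  refine mem_normalizer_iff.2 fun y => ?_
  conv_rhs => rw [← h]
  exact conj_mem_Cz_iff.symm

theorem Fix.mem_normalizer {g x : G} (h : Fix g x) : g ∈ normalizer (Cz x : Set G) := by
  obtain ⟨c, hc, he⟩ := fix_iff.1 h
  exact normalizer_of_Cz (by rw [he, Cz_center_mul hc])

theorem Cz_conj_of_mem {g x : G} (h : g ∈ normalizer (Cz x : Set G)) : Cz (g * x * g⁻¹) = Cz x := by
  ext y
  have h1 : g * (g⁻¹ * y * g) * g⁻¹ = y := by group
  rw [← h1, conj_mem_Cz_iff, (mem_normalizer_iff.1 h (g⁻¹ * y * g))]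

/-- The `t`-elements `g` with `Cz u ≤ Cz g`. -/
def tp (t : ℕ) (u : G) : Subgroup G where
  carrier := {g | Cz u ≤ Cz g ∧ Tel t g ∧ Commute g u}
  one_mem' := ⟨fun y _ => mem_Cz.2 (Commute.one_right y), Tel.one t, Commute.one_left u⟩
  mul_mem' := by
    rintro a b ⟨ha, ha', ha''⟩ ⟨hb, hb', hb''⟩
    have hab : Commute a b := mem_Cz.1 (hb (mem_Cz.2 ha''))
    exact ⟨fun y hy => mem_Cz.2 ((mem_Cz.1 (ha hy)).mul_right (mem_Cz.1 (hb hy))), ha'.mul hb' hab,
      ha''.mul_left hb''⟩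
  inv_mem' := by
    rintro a ⟨ha, ha', ha''⟩
    exact ⟨fun y hy => mem_Cz.2 (mem_Cz.1 (ha hy)).inv_right, ha'.inv, ha''.inv_left⟩

theorem isPGroup_tp (t : ℕ) (u : G) : IsPGroup t (tp t u) := isPGroup_of_tel fun _ hg => hg.2.1

theorem tp_le (t : ℕ) (u : G) : tp t u ≤ Cz u := fun _ hg => mem_Cz.2 hg.2.2

theorem tp_commute {t r : ℕ} {u g h : G} (hg : g ∈ tp t u) (hh : h ∈ tp r u) : Commute g h :=
  mem_Cz.1 (hh.1 (mem_Cz.2 hg.2.2))

theorem mem_tp_one {t : ℕ} {g : G} : g ∈ tp t (1 : G) ↔ g ∈ center G ∧ Tel t g := by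
  constructor
  · rintro ⟨h, ht, -⟩
    exact ⟨mem_center_iff.2 fun y => (mem_Cz.1 (h (mem_Cz.2 (Commute.one_right y)))).eq, ht⟩
  · rintro ⟨h, ht⟩
    exact ⟨fun y _ => mem_Cz.2 (mem_center_iff.1 h y), ht, Commute.one_right g⟩

theorem tp_one_le (t : ℕ) (u : G) : tp t (1 : G) ≤ tp t u := fun g hg => by
  obtain ⟨h1, h2⟩ := mem_tp_one.1 hg
  exact ⟨fun y _ => mem_Cz.2 (mem_center_iff.1 h1 y), h2, (mem_center_iff.1 h1 u).symm⟩

/-- Noncentral elements of prime power order, for a prime other than `q`. -/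
def PEl (q : ℕ) (u : G) : Prop := u ∉ center G ∧ ∃ t : ℕ, t.Prime ∧ t ≠ q ∧ Tel t u

/-- Commuting noncentral primary elements, for primes other than `q`, have equal centralisers. -/
def Blk (G : Type*) [Group G] (q : ℕ) : Prop :=
  ∀ u v : G, PEl q u → PEl q v → Commute u v → Cz u = Cz v

section Blk

variable {q t : ℕ} (hB : Blk G q)

include hB

theorem Blk.mem_tp (ht : t.Prime) (htq : t ≠ q) {u g : G} (hu : PEl q u) :
    g ∈ tp t u ↔ Tel t g ∧ Commute g u := by
  refine ⟨fun h => ⟨h.2.1, h.2.2⟩, fun ⟨hg, hc⟩ => ⟨?_, hg, hc⟩⟩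
  by_cases hgZ : g ∈ center G
  · exact fun y _ => mem_Cz.2 (mem_center_iff.1 hgZ y)
  · exact (hB g u ⟨hgZ, t, ht, htq, hg⟩ hu hc).ge

theorem Blk.le_tp (ht : t.Prime) (htq : t ≠ q) {u : G} (hu : PEl q u) {Q : Subgroup G}
    (hQ : IsPGroup t Q) (hQu : Q ≤ Cz u) : Q ≤ tp t u :=
  fun _ hg => (hB.mem_tp ht htq hu).2 ⟨tel_of_mem hQ hg, mem_Cz.1 (hQu hg)⟩

theorem Blk.Cz_eq (ht : t.Prime) (htq : t ≠ q) {u g : G} (hu : PEl q u) (hg : g ∈ tp t u)
    (hgZ : g ∉ center G) : Cz g = Cz u :=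
  hB g u ⟨hgZ, t, ht, htq, hg.2.1⟩ hu hg.2.2

theorem Blk.tp_eq {u v : G} (hu : PEl q u) (hv : PEl q v) (h : Cz u = Cz v) (ht : t.Prime)
    (htq : t ≠ q) : tp t u = tp t v := by
  ext g
  rw [hB.mem_tp ht htq hu, hB.mem_tp ht htq hv, ← mem_Cz, h, mem_Cz]

theorem Blk.card_tp [Finite G] [Fact t.Prime] (htq : t ≠ q) {u : G} (hu : PEl q u) :
    Nat.card (tp t u) = t ^ (Nat.card (Cz u)).factorization t := by
  obtain ⟨T, hT, hTt, hTP, hTc⟩ := exists_full t (Cz u) (isPGroup_tp t u) (tp_le t u)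
  rw [← hTc, le_antisymm (hB.le_tp Fact.out htq hu hTP hT) hTt]

/-- An element normalising the centraliser of `u` normalises `tp t u`. -/
theorem Blk.conj_mem_tp (ht : t.Prime) (htq : t ≠ q) {u g a : G} (hu : PEl q u)
    (hg : g ∈ normalizer (Cz u : Set G)) (ha : a ∈ tp t u) : g * a * g⁻¹ ∈ tp t u :=
  (hB.mem_tp ht htq hu).2 ⟨ha.2.1.conj g, mem_Cz.1 ((mem_normalizer_iff.1 hg a).1 (tp_le t u ha))⟩

theorem Blk.le_normalizer_tp (ht : t.Prime) (htq : t ≠ q) {u : G} (hu : PEl q u) :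
    normalizer (Cz u : Set G) ≤ normalizer (tp t u : Set G) := fun g hg =>
  mem_normalizer_iff.2 fun a => ⟨hB.conj_mem_tp ht htq hu hg, fun h => by
    have := hB.conj_mem_tp ht htq hu (inv_mem hg) h
    simpa [mul_assoc] using this⟩

/-- An element normalising a noncentral part of `tp t u` fixes the centraliser. -/
theorem Blk.mem_normalizer (ht : t.Prime) (htq : t ≠ q) {u g a : G} (hu : PEl q u)
    (ha : a ∈ tp t u) (haZ : a ∉ center G) (hga : g * a * g⁻¹ ∈ tp t u) :
    g ∈ normalizer (Cz u : Set G) := by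
  have h1 : g * a * g⁻¹ ∉ center G := fun h => haZ (by
    have := Subgroup.Normal.conj_mem inferInstance _ h g⁻¹
    simpa [mul_assoc] using this)
  have := normalizer_of_Cz (g := g) (x := a)
    (by rw [hB.Cz_eq ht htq hu hga h1, hB.Cz_eq ht htq hu ha haZ])
  rwa [hB.Cz_eq ht htq hu ha haZ] at this

end Blk

variable [Finite G]

/-- Primary elements that are noncentral exist in every noncentral element's cyclic subgroup. -/
theorem exists_primary {x : G} (hx : x ∉ center G) :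
    ∃ r : ℕ, r.Prime ∧ ∃ a ∈ zpowers x, a ∉ center G ∧ Tel r a := by
  obtain ⟨r, hr, a, ha, haZ, k, hk⟩ := exists_primary_noncentral hx
  exact ⟨r, hr, a, ha, haZ, tel_of_orderOf hk⟩

/-- A `p`-group normalising a noncentral `D` fixes an element of it modulo the centre. -/
theorem exists_fix {p : ℕ} [Fact p.Prime] {S D : Subgroup G} (hS : IsPGroup p S)
    (hDS : D ≤ S) (hn : S ≤ normalizer (D : Set G)) (hD : ¬ D ≤ center G) :
    ∃ z ∈ D, z ∉ center G ∧ z ^ p ∈ center G ∧ ∀ u ∈ S, Fix u z := by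
  obtain ⟨z, h1, h2, h3, h4⟩ := exists_fixed_mod_center hS hDS hn hD
  exact ⟨z, h1, h2, h3, fun u hu => fix_iff.2 (h4 u hu)⟩

/-- Burnside, for the central quotient: at most two primes have noncentral elements. -/
theorem isSolvable_of_two (a b : ℕ) (ha : a.Prime) (hb : b.Prime)
    (h : ∀ (r : ℕ) (g : G), r.Prime → r ≠ a → r ≠ b → Tel r g → g ∈ center G) :
    Group.IsSolvable G := by
  have hq : Group.IsSolvable (G ⧸ center G) := by
    refine CfsgLib.Char.isSolvable_of_two_primes a b ha hb _ _ rfl fun r hr hd => ?_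
    by_contra hne
    push Not at hne
    haveI := Fact.mk hr
    obtain ⟨R⟩ := (inferInstance : Nonempty (Sylow r G))
    exact R.not_dvd_index (hd.trans (index_dvd_of_le fun g hg =>
      h r g hr hne.1 hne.2 (tel_of_mem R.2 hg)))
  haveI : Group.IsSolvable (center G) := Group.isSolvable_of_comm fun a b =>
    Subtype.ext (mem_center_iff.1 b.2 (a : G))
  exact Group.isSolvable_of_ker_le_range (center G).subtype (QuotientGroup.mk' (center G)) (by simp)

/-- A largest normal solvable subgroup. -/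
theorem exists_radical (G : Type*) [Group G] [Finite G] :
    ∃ R : Subgroup G, R.Normal ∧ Group.IsSolvable R ∧
      ∀ N : Subgroup G, N.Normal → Group.IsSolvable N → N ≤ R := by
  obtain ⟨R, ⟨hRn, hRs⟩, hmax⟩ := (Set.toFinite
    {N : Subgroup G | N.Normal ∧ Group.IsSolvable N}).exists_maximalFor (fun N => N) _
      ⟨⊥, inferInstance, inferInstance⟩
  refine ⟨R, hRn, hRs, fun N hN hNs => ?_⟩
  have hs := CfsgLib.Components.isSolvable_sup hNs hRs
    (le_of_le_of_eq le_top (normalizer_eq_top_iff.2 hRn).symm)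
  exact le_sup_left.trans (hmax ⟨inferInstance, hs⟩ le_sup_right)

/-- Kazarin's theorem, in centraliser form. -/
theorem mem_radical_of_index {R : Subgroup G}
    (hmax : ∀ N : Subgroup G, N.Normal → Group.IsSolvable N → N ≤ R) {x : G} {q k : ℕ}
    (hq : q.Prime) (hx : (Cz x).index = q ^ k) : x ∈ R := by
  have h : (ConjClasses.mk x).carrier.ncard = q ^ k := by
    rw [← hx, ← CfsgLib.ClassSize.ncard_setOf_isConj x]
    rfl
  exact hmax _ normalClosure_normal (Cfsg.Agent.S4037.result x hq k h)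
    (subset_normalClosure (Set.mem_singleton x))

/-- Kazarin's theorem in the central quotient: subgroups fixing `x` modulo the centre of `q`-power
index put `x` in the radical. -/
theorem mem_radical_of_fix {R : Subgroup G}
    (hmax : ∀ N : Subgroup G, N.Normal → Group.IsSolvable N → N ≤ R) {x : G} {q : ℕ} (hq : q.Prime)
    (hx : ∀ r : ℕ, r.Prime → r ≠ q → ∃ H : Subgroup G, ¬ r ∣ H.index ∧ ∀ g ∈ H, Fix g x) :
    x ∈ R := by
  set π := QuotientGroup.mk' (center G) with hπ
  have hidx : ∀ r : ℕ, r.Prime → r ∣ (Cz (π x)).index → r = q := by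
    intro r hr hd
    by_contra hrq
    obtain ⟨H, hH, hfix⟩ := hx r hr hrq
    refine hH (hd.trans ?_)
    rw [← index_comap_of_surjective _ (QuotientGroup.mk'_surjective (center G))]
    refine index_dvd_of_le fun g hg => mem_comap.2 (mem_Cz.2 ?_)
    have h2 : π (g * x * g⁻¹ * x⁻¹) = 1 := (QuotientGroup.eq_one_iff _).2 (hfix g hg)
    simp only [map_mul, map_inv] at h2
    exact commutatorElement_eq_one_iff_commute.1 h2
  obtain hk := Nat.eq_prime_pow_of_unique_prime_dvd (p := q)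
    (Subgroup.index_ne_zero_of_finite (H := Cz (π x))) fun {r} hr hd => hidx r hr hd
  have h : (ConjClasses.mk (π x)).carrier.ncard = q ^ (Cz (π x)).index.primeFactorsList.length := by
    rw [← hk, ← CfsgLib.ClassSize.ncard_setOf_isConj (π x)]
    rfl
  have hs := Cfsg.Agent.S4037.result (π x) hq _ h
  set M := normalClosure ({π x} : Set (G ⧸ center G)) with hM
  haveI : M.Normal := normalClosure_normal
  haveI := hs
  haveI : Group.IsSolvable (center G) := Group.isSolvable_of_comm fun a b =>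
    Subtype.ext (mem_center_iff.1 b.2 (a : G))
  have hsol : Group.IsSolvable (M.comap π) := by
    refine Group.isSolvable_of_ker_le_range
      (Subgroup.inclusion (show center G ≤ M.comap π from fun g hg =>
        mem_comap.2 (by rw [show π g = 1 from (QuotientGroup.eq_one_iff g).2 hg]; exact one_mem _)))
      (π.subgroupComap M) ?_
    intro g hg
    have : π (g : G) = 1 := congrArg Subtype.val (MonoidHom.mem_ker.1 hg)
    exact ⟨⟨g, (QuotientGroup.eq_one_iff _).1 this⟩, rfl⟩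
  exact hmax _ inferInstance hsol (mem_comap.2 (subset_normalClosure (Set.mem_singleton (π x))))

end CfsgLib.ThreeClass
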