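import Cfsg.Agent.Lib.ThreeClass.Radical

/-!
# Blocks of constant order imply solvability

If commuting noncentral primary elements for primes other than `q` have equal centralisers and the
Sylow orders of these centralisers do not depend on the element, the group is solvable: at most
one prime `t` has blocks below a Sylow subgroup, so the central-modulo-centre elements of a Sylow
`t`-subgroup have prime power class size in the central quotient and lie in the solvable radical.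
-/

set_option autoImplicit false
set_option linter.style.haveILetI false
set_option linter.unusedSectionVars false

namespace CfsgLib.ThreeClass

open Subgroup CfsgLib.ClassSize.Three

variable {G : Type*} [Group G] {q : ℕ}

/-- All blocks have the same Sylow orders. -/
def Const (G : Type*) [Group G] (q : ℕ) : Prop :=
  ∀ u v : G, PEl q u → PEl q v → ∀ t : ℕ, t.Prime → t ≠ q → Nat.card (tp t u) = Nat.card (tp t v)

/-- A prime other than `q` with noncentral elements. -/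
def Act (G : Type*) [Group G] (q t : ℕ) : Prop :=
  t.Prime ∧ t ≠ q ∧ ∃ g : G, g ∉ center G ∧ Tel t g

/-- The blocks contain Sylow `t`-subgroups. -/
def Full (G : Type*) [Group G] (q t : ℕ) : Prop :=
  ∀ u : G, PEl q u → ∀ T : Sylow t G, Nat.card (tp t u) = Nat.card T

variable [Finite G]

section

variable (hB : Blk G q) (hC : Const G q)

include hB hC

theorem not_le_center {t : ℕ} (ht : Act G q t) {u : G} (hu : PEl q u) : ¬ tp t u ≤ center G := by
  obtain ⟨htp, htq, g, hgZ, hg⟩ := ht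
  intro h
  have hle : tp t u ≤ tp t (1 : G) := fun a ha => mem_tp_one.2 ⟨h ha, ha.2.1⟩
  have hgp : PEl q g := ⟨hgZ, t, htp, htq, hg⟩
  have h1 : Nat.card (tp t g) ≤ Nat.card (tp t (1 : G)) :=
    (hC g u hgp hu t htp htq).le.trans (Nat.le_of_dvd Nat.card_pos (card_dvd_of_le hle))
  have h2 := eq_of_le_of_card_ge (tp_one_le t g) h1
  have hmem : g ∈ tp t (1 : G) := h2 ▸ (hB.mem_tp htp htq hgp).2 ⟨hg, Commute.refl g⟩
  exact hgZ (mem_tp_one.1 hmem).1

theorem exists_z2 {t : ℕ} [Fact t.Prime] (ht : Act G q t) (T : Sylow t G) :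
    ∃ z ∈ (T : Subgroup G), PEl q z ∧ z ^ t ∈ center G ∧ ∀ g ∈ (T : Subgroup G), Fix g z := by
  obtain ⟨htp, htq, g, hgZ, hg⟩ := ht
  have hne : ¬ (T : Subgroup G) ≤ center G := by
    intro h
    obtain ⟨k, hk⟩ := hg.exists_orderOf
    obtain ⟨S, hS⟩ := (CfsgLib.ClassSize.Three.isPGroup_zpowers hk).exists_le_sylow
    obtain ⟨x, hx⟩ := MulAction.exists_smul_eq G T S
    have hgS := hS (mem_zpowers g)
    rw [← hx, Sylow.coe_subgroup_smul, mem_pointwise_smul_iff_inv_smul_mem] at hgS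
    have := h hgS
    refine hgZ ?_
    have h2 := Normal.conj_mem inferInstance _ this x
    simpa [mul_assoc] using h2
  obtain ⟨z, hzT, hzZ, hzt, hfix⟩ := exists_fix T.2 le_rfl le_normalizer hne
  exact ⟨z, hzT, ⟨hzZ, t, htp, htq, tel_of_mem T.2 hzT⟩, hzt, hfix⟩

theorem tp_le_sylow {t : ℕ} [Fact t.Prime] (htq : t ≠ q) (T : Sylow t G) {z : G} (hz : PEl q z)
    (hfix : ∀ g ∈ (T : Subgroup G), Fix g z) : tp t z ≤ (T : Subgroup G) := by
  have h1 : (T : Subgroup G) ≤ normalizer (tp t z : Set G) := fun g hg =>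
    hB.le_normalizer_tp Fact.out htq hz (hfix g hg).mem_normalizer
  exact le_sup_right.trans
    (T.3 (IsPGroup.to_sup_of_normal_right' T.2 (isPGroup_tp t z) h1) le_sup_left).le

/-- Sylow subgroups containing blocks normalise them, with index one or `t`. -/
theorem sylow_struct {t r : ℕ} [Fact t.Prime] [Fact r.Prime] (ht : Act G q t) (hr : Act G q r)
    (hrt : r ≠ t) {u : G} (hu : PEl q u) {T : Sylow t G} (hT : tp t u ≤ (T : Subgroup G)) :
    (T : Subgroup G) ≤ normalizer (Cz u : Set G) ∧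
      (Nat.card T = Nat.card (tp t u) ∨ Nat.card T = t * Nat.card (tp t u)) := by
  have htq := ht.2.1
  have hrq := hr.2.1
  obtain ⟨z, hzT, hz, hzt, hfix⟩ := exists_z2 hB hC ht T
  obtain ⟨δ, hδ, hδZ⟩ := SetLike.not_le_iff_exists.1 (not_le_center hB hC hr hz)
  have hcard : Nat.card T = Nat.card (tp t z) ∨ Nat.card T = t * Nat.card (tp t z) := by
    by_cases he : tp t z = (T : Subgroup G)
    · left; rw [he]
    · exact Or.inr (card_le_mul hB htq hrq hrt hz hδ hδZ (not_le_center hB hC ht hz) T.2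
        (fun g hg => (hfix g hg).mem_normalizer) (tp_le_sylow hB hC htq T hz hfix) he)
  rw [hC z u hz hu t ht.1 htq] at hcard
  refine ⟨?_, hcard⟩
  obtain ⟨a, ha, haZ⟩ := SetLike.not_le_iff_exists.1 (not_le_center hB hC ht hu)
  have key : (T : Subgroup G) ≤ normalizer (tp t u : Set G) := by
    rcases eq_or_lt_of_le hT with e | hlt
    · rw [← e]; exact le_normalizer
    obtain ⟨v, hv, hvn, hvN, -⟩ := exists_normalizer_step T.2 hlt
    have h1 : tp t u < (T : Subgroup G) ⊓ normalizer (tp t u : Set G) :=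
      lt_of_le_of_ne (le_inf hT le_normalizer) fun e => hvn (e.symm ▸ ⟨hv, hvN⟩)
    set X := (T : Subgroup G) ⊓ normalizer (tp t u : Set G) with hX
    obtain ⟨i, hi⟩ := IsPGroup.iff_card.1 (isPGroup_tp t u)
    obtain ⟨j, hj⟩ := IsPGroup.iff_card.1 (T.2.to_le (inf_le_left : X ≤ _))
    have hlt2 : Nat.card (tp t u) < Nat.card X := lt_of_le_of_ne
      (Nat.le_of_dvd Nat.card_pos (card_dvd_of_le h1.le)) fun e => h1.ne (eq_of_le_of_card_ge h1.le e.ge)
    have hge : Nat.card T ≤ Nat.card X := by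
      rw [hi, hj] at hlt2
      rcases hcard with e | e
      · rw [e, hi, hj]; exact hlt2.le
      · rw [e, hi, hj, ← pow_succ']
        exact Nat.pow_le_pow_right ht.1.pos ((Nat.pow_lt_pow_iff_right ht.1.one_lt).1 hlt2)
    exact (eq_of_le_of_card_ge (inf_le_left : X ≤ _) hge).ge.trans inf_le_right
  intro g hg
  exact hB.mem_normalizer ht.1 htq hu ha haZ ((mem_normalizer_iff.1 (key hg) a).1 ha)

theorem not_full {t r : ℕ} [Fact t.Prime] [Fact r.Prime] (ht : Act G q t) (hr : Act G q r)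
    (hrt : r ≠ t) (hf : ¬ Full G q t) {u : G} (hu : PEl q u) (T : Sylow t G) :
    Nat.card T = t * Nat.card (tp t u) := by
  simp only [Full, not_forall] at hf
  obtain ⟨v, hv, T₀, hne⟩ := hf
  obtain ⟨S, hS⟩ := (isPGroup_tp t v).exists_le_sylow
  rcases (sylow_struct hB hC ht hr hrt hv hS).2 with h | h
  · exact absurd (h.symm.trans (S.card_eq_multiplicity.trans T₀.card_eq_multiplicity.symm)) hne
  · rw [hC u v hu hv t ht.1 ht.2.1, ← h]
    exact T.card_eq_multiplicity.trans S.card_eq_multiplicity.symm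

theorem full_mem {t : ℕ} [Fact t.Prime] (htq : t ≠ q) (hf : Full G q t) {u g : G} (hu : PEl q u)
    (hg : Tel t g) (hn : g ∈ normalizer (Cz u : Set G)) : g ∈ tp t u := by
  obtain ⟨k, hk⟩ := hg.exists_orderOf
  have hP : IsPGroup t (zpowers g ⊔ tp t u : Subgroup G) :=
    IsPGroup.to_sup_of_normal_right' (CfsgLib.ClassSize.Three.isPGroup_zpowers hk) (isPGroup_tp t u)
      (zpowers_le.2 (hB.le_normalizer_tp Fact.out htq hu hn))
  obtain ⟨T, hT⟩ := hP.exists_le_sylow
  have := eq_of_le_of_card_ge ((le_sup_right : tp t u ≤ _).trans hT) (hf u hu T).ge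
  exact this.ge (hT (mem_sup_left (mem_zpowers g)))

theorem not_dvd_index {r : ℕ} [Fact r.Prime] (hrq : r ≠ q) (hf : Act G q r → Full G q r) {u : G}
    (hu : PEl q u) : ¬ r ∣ (Cz u).index := by
  by_cases hr : Act G q r
  · obtain ⟨T, hT⟩ := (isPGroup_tp r u).exists_le_sylow
    refine fun hd => T.not_dvd_index (hd.trans (index_dvd_of_le ?_))
    rw [← eq_of_le_of_card_ge hT (hf hr u hu T).ge]
    exact tp_le r u
  · obtain ⟨T⟩ := (inferInstance : Nonempty (Sylow r G))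
    refine fun hd => T.not_dvd_index (hd.trans (index_dvd_of_le fun g hg => center_le_Cz u ?_))
    by_contra hgZ
    exact hr ⟨Fact.out, hrq, g, hgZ, tel_of_mem T.2 hg⟩

/-- The element `c ^ t` is central for `c` outside a block it normalises. -/
theorem pow_central {t r : ℕ} [Fact t.Prime] [Fact r.Prime] (ht : Act G q t) (hr : Act G q r)
    (hrt : r ≠ t) {z c : G} (hz : PEl q z) (T : Sylow t G) (hT : tp t z ≤ (T : Subgroup G))
    (hcT : c ∈ (T : Subgroup G)) (hc : c ∉ tp t z) : c ^ t ∈ center G := by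
  by_contra hne
  have htq := ht.2.1
  obtain ⟨δ, hδ, hδZ⟩ := SetLike.not_le_iff_exists.1 (not_le_center hB hC hr hz)
  have hmem := (normalizing_structure hB htq hr.2.1 hrt hz hδ hδZ (not_le_center hB hC ht hz) T.2
    (sylow_struct hB hC ht hr hrt hz hT).1 hT c hcT).1
  refine hc ((hB.mem_tp ht.1 htq hz).2 ⟨tel_of_mem T.2 hcT, ?_⟩)
  rw [← mem_Cz, ← hB.Cz_eq ht.1 htq hz hmem hne, mem_Cz]
  exact Commute.self_pow c t

/-- If two does not fill its blocks, every other prime does. -/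
theorem two_not_full (h2 : Act G q 2) (hf2 : ¬ Full G q 2) {s : ℕ} (hs : Act G q s)
    (hfs : ¬ Full G q s) : s = 2 := by
  by_contra hs2
  haveI : Fact (Nat.Prime 2) := ⟨Nat.prime_two⟩
  haveI : Fact s.Prime := ⟨hs.1⟩
  obtain ⟨T⟩ := (inferInstance : Nonempty (Sylow 2 G))
  obtain ⟨z, hzT, hz, hz2, hfix⟩ := exists_z2 hB hC h2 T
  have hle := tp_le_sylow hB hC h2.2.1 T hz hfix
  have hne : tp 2 z ≠ (T : Subgroup G) := by
    intro e
    have := not_full hB hC h2 hs hs2 hf2 hz T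
    rw [e] at this
    have := Nat.card_pos (α := (T : Subgroup G))
    omega
  obtain ⟨c, hcT, hc⟩ := SetLike.exists_of_lt (lt_of_le_of_ne hle hne)
  have hc2 := pow_central hB hC h2 hs hs2 hz T hle hcT hc
  have hcZ : c ∉ center G := fun h => hc (tp_one_le 2 z (mem_tp_one.2 ⟨h, tel_of_mem T.2 hcT⟩))
  have hcp : PEl q c := ⟨hcZ, 2, Nat.prime_two, h2.2.1, tel_of_mem T.2 hcT⟩
  have hcn : c ∈ normalizer (Cz z : Set G) := (hfix c hcT).mem_normalizer
  have hzm : z ∈ tp 2 z := (hB.mem_tp Nat.prime_two h2.2.1 hz).2 ⟨tel_of_mem T.2 hzT, Commute.refl z⟩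
  -- `c` inverts the block modulo the centre
  have hinv : ∀ v ∈ tp 2 z, v * (c * v * c⁻¹) ∈ center G := by
    intro v hv
    by_contra hZ
    have hv' := hB.conj_mem_tp Nat.prime_two h2.2.1 hz hcn hv
    have hcv : c * (c * v * c⁻¹) * c⁻¹ = v := by
      rw [show c * (c * v * c⁻¹) * c⁻¹ = c ^ 2 * v * (c ^ 2)⁻¹ by rw [sq]; group,
        ← mem_center_iff.1 hc2 v, mul_inv_cancel_right]
    have hcom : Commute c (v * (c * v * c⁻¹)) := by
      rw [Commute, SemiconjBy]
      calc c * (v * (c * v * c⁻¹)) = (c * v * c⁻¹) * (c * (c * v * c⁻¹) * c⁻¹) * c := by group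
        _ = v * (c * v * c⁻¹) * c := by rw [hcv, (tp_commute hv hv').eq]
    refine hc ((hB.mem_tp Nat.prime_two h2.2.1 hz).2 ⟨tel_of_mem T.2 hcT, ?_⟩)
    rw [← mem_Cz, ← hB.Cz_eq Nat.prime_two h2.2.1 hz (mul_mem hv hv') hZ, mem_Cz]
    exact hcom
  obtain ⟨δ, hδ, hδZ⟩ := SetLike.not_le_iff_exists.1 (not_le_center hB hC hs hcp)
  obtain ⟨S, hS⟩ := (isPGroup_tp s z).exists_le_sylow
  have hSn := (sylow_struct hB hC hs h2 (Ne.symm hs2) hz hS).1
  have hSne : tp s z ≠ (S : Subgroup G) := by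
    intro e
    have := not_full hB hC hs h2 (Ne.symm hs2) hfs hz S
    rw [e] at this
    have h1 := Nat.card_pos (α := (S : Subgroup G))
    have h3 := hs.1.two_le
    nlinarith
  obtain ⟨σ, hσS, hσ⟩ := SetLike.exists_of_lt (lt_of_le_of_ne hS hSne)
  set v := σ * z * σ⁻¹ with hv
  have hvm : v ∈ tp 2 z := hB.conj_mem_tp Nat.prime_two h2.2.1 hz (hSn hσS) hzm
  have hv2 : v ^ 2 ∈ center G := by
    rw [hv, conj_pow]
    exact Normal.conj_mem inferInstance _ hz2 σ
  have hvfix : Fix v c := by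
    refine Fix.symm ?_
    show c * v * c⁻¹ * v⁻¹ ∈ center G
    have hv' := hB.conj_mem_tp Nat.prime_two h2.2.1 hz hcn hvm
    have e : c * v * c⁻¹ * v⁻¹ = v * (c * v * c⁻¹) * (v ^ 2)⁻¹ := by
      rw [(tp_commute hvm hv').eq, sq]; group
    rw [e]
    exact mul_mem (hinv v hvm) (inv_mem hv2)
  obtain ⟨j, hj⟩ := fixed_cyclic hB (t := 2) h2.2.1 hs.2.1 hs2 hz hcp (tel_of_mem T.2 hcT) hδ hδZ
    hzm hvm (hfix c hcT).symm hvfix (fun h => hc ((hB.mem_tp Nat.prime_two h2.2.1 hz).2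
      ⟨tel_of_mem T.2 hcT, h.2.2.symm⟩))
  refine hσ (mem_tp_of_fix hB hs.2.1 h2.2.1 (Ne.symm hs2) hz hzm hz.1 (tel_of_mem S.2 hσS) ?_)
  exact fix_of_cyclic (t := 2) hs.1 (Nat.coprime_one_right s) (tel_of_mem S.2 hσS) hz.1 hz2 ⟨j, hj⟩

omit hB hC in
theorem cyc_card {t : ℕ} [ht : Fact t.Prime] (hB : Blk G q) (htq : t ≠ q) {x : G} (hx : PEl q x)
    (hxt : Tel t x) (hxpow : x ^ t ∈ center G) :
    (∀ w ∈ tp t x, ∃ j : ℕ, w * (x ^ j)⁻¹ ∈ center G) ↔
      Nat.card (tp t x) = t * Nat.card (tp t (1 : G)) := by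
  have hxm : x ∈ tp t x := (hB.mem_tp ht.out htq hx).2 ⟨hxt, Commute.refl x⟩
  let f : Fin t × tp t (1 : G) → tp t x := fun a =>
    ⟨(a.2 : G) * x ^ (a.1 : ℕ), mul_mem (tp_one_le t x a.2.2) (pow_mem hxm _)⟩
  have hinj : Function.Injective f := by
    rintro ⟨⟨i, hi⟩, a, ha⟩ ⟨⟨j, hj⟩, b, hb⟩ h
    replace h : a * x ^ i = b * x ^ j := congrArg Subtype.val h
    have hX : orderOf (QuotientGroup.mk' (center G) x) = t := by
      refine orderOf_eq_prime ?_ fun h1 => hx.1 ((QuotientGroup.eq_one_iff _).1 h1)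
      rw [← map_pow]; exact (QuotientGroup.eq_one_iff _).2 hxpow
    have h1 := congrArg (QuotientGroup.mk' (center G)) h
    rw [map_mul, map_mul, map_pow, map_pow, show QuotientGroup.mk' (center G) a = 1 from
      (QuotientGroup.eq_one_iff _).2 (mem_tp_one.1 ha).1, show QuotientGroup.mk' (center G) b = 1 from
      (QuotientGroup.eq_one_iff _).2 (mem_tp_one.1 hb).1, one_mul, one_mul, pow_eq_pow_iff_modEq,
      hX, Nat.ModEq, Nat.mod_eq_of_lt hi, Nat.mod_eq_of_lt hj] at h1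
    subst h1
    simp [mul_right_cancel h]
  have hc : Nat.card (Fin t × tp t (1 : G)) = t * Nat.card (tp t (1 : G)) := by simp [Nat.card_prod]
  constructor
  · intro h
    rw [← hc]
    refine (Nat.card_eq_of_bijective f ⟨hinj, ?_⟩).symm
    rintro ⟨w, hw⟩
    obtain ⟨j, hj⟩ := h w hw
    have hxd : x ^ t ∈ tp t (1 : G) := mem_tp_one.2 ⟨hxpow, (pow_mem hxm t : x ^ t ∈ tp t x).2.1⟩
    refine ⟨⟨⟨j % t, Nat.mod_lt _ ht.out.pos⟩, ⟨w * (x ^ j)⁻¹ * (x ^ t) ^ (j / t), mul_mem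
      (mem_tp_one.2 ⟨hj, (mul_mem hw (inv_mem (pow_mem hxm j)) : _ ∈ tp t x).2.1⟩) (pow_mem hxd _)⟩⟩,
      Subtype.ext ?_⟩
    show w * (x ^ j)⁻¹ * (x ^ t) ^ (j / t) * x ^ (j % t) = w
    rw [mul_assoc, ← pow_mul, ← pow_add, Nat.div_add_mod, inv_mul_cancel_right]
  · intro h w hw
    have hb := (Nat.bijective_iff_injective_and_card f).2 ⟨hinj, hc.trans h.symm⟩
    obtain ⟨⟨i, a, ha⟩, he⟩ := hb.2 ⟨w, hw⟩
    refine ⟨(i : ℕ), ?_⟩
    rw [← show a * x ^ (i : ℕ) = w from congrArg Subtype.val he, mul_inv_cancel_right]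
    exact (mem_tp_one.1 ha).1

/-- For odd `t`, a block below a Sylow subgroup is cyclic modulo the centre. -/
theorem small_of_odd {t r : ℕ} [Fact t.Prime] [Fact r.Prime] (ht : Act G q t) (ht2 : t ≠ 2)
    (hft : ¬ Full G q t) (hr : Act G q r) (hrt : r ≠ t) (hf2 : Act G q 2 → Full G q 2)
    (T : Sylow t G) {z : G} (hzT : z ∈ (T : Subgroup G)) (hz : PEl q z) (hzt : z ^ t ∈ center G)
    (hfix : ∀ g ∈ (T : Subgroup G), Fix g z) :
    ∀ w ∈ tp t z, ∃ j : ℕ, w * (z ^ j)⁻¹ ∈ center G := by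
  by_contra hbig
  have htq := ht.2.1
  have hle := tp_le_sylow hB hC htq T hz hfix
  have hcard := not_full hB hC ht hr hrt hft hz T
  have hne : tp t z ≠ (T : Subgroup G) := by
    intro e
    rw [e] at hcard
    have h1 := Nat.card_pos (α := (T : Subgroup G))
    have h3 := ht.1.two_le
    nlinarith
  obtain ⟨c, hcT, hc⟩ := SetLike.exists_of_lt (lt_of_le_of_ne hle hne)
  have hct := pow_central hB hC ht hr hrt hz T hle hcT hc
  have hcZ : c ∉ center G := fun h => hc (tp_one_le t z (mem_tp_one.2 ⟨h, tel_of_mem T.2 hcT⟩))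
  have hcp : PEl q c := ⟨hcZ, t, ht.1, htq, tel_of_mem T.2 hcT⟩
  have hzc : z ∉ tp t c := fun h => hc ((hB.mem_tp ht.1 htq hz).2 ⟨tel_of_mem T.2 hcT, h.2.2.symm⟩)
  have hbigc : ¬ ∀ w ∈ tp t c, ∃ j : ℕ, w * (c ^ j)⁻¹ ∈ center G := fun h => hbig
    ((cyc_card hB htq hz (tel_of_mem T.2 hzT) hzt).2 ((hC z c hz hcp t ht.1 htq).trans
      ((cyc_card hB htq hcp (tel_of_mem T.2 hcT) hct).1 h)))
  push Not at hbig hbigc
  obtain ⟨δ, hδ, hδZ⟩ := SetLike.not_le_iff_exists.1 (not_le_center hB hC hr hcp)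
  obtain ⟨ε, hε, hεZ⟩ := SetLike.not_le_iff_exists.1 (not_le_center hB hC hr hz)
  obtain ⟨a, -, i, hi, hax, hay⟩ := transvection hB htq hr.2.1 hrt hz hcp (tel_of_mem T.2 hzT)
    (tel_of_mem T.2 hcT) (hfix c hcT).symm hzc hδ hδZ hbig
  obtain ⟨b, -, j, hj, hby, hbx⟩ := transvection hB htq hr.2.1 hrt hcp hz (tel_of_mem T.2 hcT)
    (tel_of_mem T.2 hzT) (hfix c hcT) hc hε hεZ hbigc
  obtain ⟨u, hu, hux, huy⟩ := exists_inverting ht2 hzt hct (hfix c hcT).symm hi hj hax hay hby hbx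
  by_cases hq2 : q = 2
  · subst hq2
    exact false_of_inverting hB ht2 hr.2.1 hrt hz (tel_of_mem T.2 hzT) (tel_of_mem T.2 hcT)
      (hfix c hcT).symm hc hε hεZ hu hux huy
  · haveI : Fact (Nat.Prime 2) := ⟨Nat.prime_two⟩
    have hun : u ∈ normalizer (Cz z : Set G) := by
      refine normalizer_of_Cz ?_
      rw [Cz_eq_of_mk (g := u * z * u⁻¹) (h := z⁻¹) (mk_eq_iff.2 (by rwa [inv_inv]))]
      ext g; simp [mem_Cz]
    have hcom : Commute u z := by
      by_cases huZ : u ∈ center G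
      · exact (mem_center_iff.1 huZ z).symm
      · have h2 : Act G q 2 := ⟨Nat.prime_two, Ne.symm hq2, u, huZ, hu⟩
        exact (full_mem hB hC (Ne.symm hq2) (hf2 h2) hz hu hun).2.2
    refine hz.1 ?_
    have h2 : z ^ 2 ∈ center G := by rwa [hcom.eq, mul_inv_cancel_right, ← sq] at hux
    obtain ⟨k, hk⟩ := (tel_of_mem T.2 hzT : Tel t z).exists_orderOf
    obtain ⟨m, hm⟩ := exists_pow_eq_self_of_coprime (x := z) (n := 2)
      (by rw [hk]; exact Nat.Coprime.pow_right k ((Nat.coprime_primes Nat.prime_two ht.1).2 ht2.symm))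
    rw [← hm]
    exact pow_mem h2 m

/-- Two odd primes cannot both have blocks below Sylow subgroups. -/
theorem odd_not_full {t s : ℕ} (ht : Act G q t) (ht2 : t ≠ 2) (hs : Act G q s) (hts : t < s)
    (hft : ¬ Full G q t) (hfs : ¬ Full G q s) (hf2 : Act G q 2 → Full G q 2) : False := by
  haveI : Fact t.Prime := ⟨ht.1⟩
  haveI : Fact s.Prime := ⟨hs.1⟩
  obtain ⟨T⟩ := (inferInstance : Nonempty (Sylow t G))
  obtain ⟨z, hzT, hz, hzt, hfix⟩ := exists_z2 hB hC ht T
  have hsmall := small_of_odd hB hC ht ht2 hft hs hts.ne' hf2 T hzT hz hzt hfix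
  obtain ⟨S, hS⟩ := (isPGroup_tp s z).exists_le_sylow
  have hSn := (sylow_struct hB hC hs ht hts.ne hz hS).1
  have hSne : tp s z ≠ (S : Subgroup G) := by
    intro e
    have := not_full hB hC hs ht hts.ne hfs hz S
    rw [e] at this
    have h1 := Nat.card_pos (α := (S : Subgroup G))
    have h3 := hs.1.two_le
    nlinarith
  obtain ⟨σ, hσS, hσ⟩ := SetLike.exists_of_lt (lt_of_le_of_ne hS hSne)
  have hzm : z ∈ tp t z := (hB.mem_tp ht.1 ht.2.1 hz).2 ⟨tel_of_mem T.2 hzT, Commute.refl z⟩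
  refine hσ (mem_tp_of_fix hB hs.2.1 ht.2.1 hts.ne hz hzm hz.1 (tel_of_mem S.2 hσS) ?_)
  refine fix_of_cyclic hs.1 ?_ (tel_of_mem S.2 hσS) hz.1 hzt
    (hsmall _ (hB.conj_mem_tp ht.1 ht.2.1 hz (hSn hσS) hzm))
  exact (Nat.Prime.coprime_iff_not_dvd hs.1).2 fun hd => by
    have := Nat.le_of_dvd (by have := ht.1.two_le; omega) hd
    omega

/-- At most one prime has blocks below Sylow subgroups. -/
theorem not_full_unique {t s : ℕ} (ht : Act G q t) (hs : Act G q s) (hft : ¬ Full G q t)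
    (hfs : ¬ Full G q s) : s = t := by
  by_contra hne
  by_cases hf2 : Act G q 2 → Full G q 2
  · have ht2 : t ≠ 2 := fun e => hft (e ▸ hf2 (e ▸ ht))
    have hs2 : s ≠ 2 := fun e => hfs (e ▸ hf2 (e ▸ hs))
    rcases Nat.lt_or_lt_of_ne hne with h | h
    · exact odd_not_full hB hC hs hs2 ht h hfs hft hf2
    · exact odd_not_full hB hC ht ht2 hs h hft hfs hf2
  · rw [Classical.not_imp] at hf2
    exact hne ((two_not_full hB hC hf2.1 hf2.2 hs hfs).trans
      (two_not_full hB hC hf2.1 hf2.2 ht hft).symm)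

/-- The normalisers of the blocks are solvable. -/
theorem isSolvable_normalizer (hq : q.Prime) {t : ℕ} (ht : t.Prime)
    (hfull : ∀ r, Act G q r → r ≠ t → Full G q r) {u : G} (hu : PEl q u) :
    Group.IsSolvable (normalizer (Cz u : Set G)) := by
  have hCsol : Group.IsSolvable (Cz u) := by
    refine isSolvable_of_two q q hq hq fun r g hr hrq _ hg => ?_
    haveI := Fact.mk hr
    have hg' : Tel r (g : G) := by
      obtain ⟨k, hk⟩ := hg
      exact ⟨k, congrArg Subtype.val hk⟩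
    have hmem : (g : G) ∈ tp r u := (hB.mem_tp hr hrq hu).2 ⟨hg', mem_Cz.1 g.2⟩
    exact mem_center_iff.2 fun x => Subtype.ext (mem_Cz.1 (hmem.1 x.2)).eq
  set N := normalizer (Cz u : Set G) with hN
  haveI : ((Cz u).subgroupOf N).Normal :=
    (normal_subgroupOf_iff_le_normalizer le_normalizer).2 le_rfl
  haveI : Group.IsSolvable ((Cz u).subgroupOf N) :=
    Group.isSolvable_of_surjective (subgroupOfEquivOfLe (le_normalizer : Cz u ≤ N)).symm.surjective
      (f := (subgroupOfEquivOfLe (le_normalizer : Cz u ≤ N)).symm.toMonoidHom)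
  have hquot : Group.IsSolvable (N ⧸ (Cz u).subgroupOf N) := by
    refine CfsgLib.Char.isSolvable_of_two_primes q t hq ht _ _ rfl fun r hr hd => ?_
    by_contra hne
    push Not at hne
    haveI := Fact.mk hr
    obtain ⟨R⟩ := (inferInstance : Nonempty (Sylow r N))
    refine R.not_dvd_index (hd.trans (index_dvd_of_le fun g hg => mem_subgroupOf.2 ?_))
    have hgt : Tel r (g : G) := tel_of_mem (R.2.map N.subtype) ⟨g, hg, rfl⟩
    by_cases hgZ : (g : G) ∈ center G
    · exact center_le_Cz u hgZ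
    · exact tp_le r u (full_mem hB hC hne.1 (hfull r ⟨hr, hne.1, g, hgZ, hgt⟩ hne.2) hu hgt g.2)
  exact Group.isSolvable_of_ker_le_range ((Cz u).subgroupOf N).subtype
    (QuotientGroup.mk' ((Cz u).subgroupOf N)) (by simp)

/-- A Sylow subgroup of the radical inside one block makes the group solvable. -/
theorem isSolvable_of_block {R : Subgroup G} [R.Normal] (hRs : Group.IsSolvable R) {s : ℕ}
    [Fact s.Prime] (hsq : s ≠ q) (P : Sylow s R) {u w : G} (hu : PEl q u)
    (hNs : Group.IsSolvable (normalizer (Cz u : Set G)))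
    (hw : w ∈ (P : Subgroup R).map R.subtype) (hwZ : w ∉ center G)
    (hP : (P : Subgroup R).map R.subtype ≤ tp s u) : Group.IsSolvable G := by
  set N := normalizer (Cz u : Set G) with hN
  haveI := hRs
  haveI := hNs
  have hsurj : Function.Surjective ((QuotientGroup.mk' R).comp N.subtype) := by
    intro x
    obtain ⟨g, rfl⟩ := QuotientGroup.mk'_surjective R x
    have hg : g ∈ normalizer (((P : Subgroup R).map R.subtype : Subgroup G) : Set G) ⊔ R := by
      rw [Sylow.normalizer_sup_eq_top]; exact mem_top g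
    obtain ⟨n, hn, m, hm, rfl⟩ := mem_sup_of_normal_right.1 hg
    refine ⟨⟨n, ?_⟩, ?_⟩
    · exact hB.mem_normalizer Fact.out hsq hu (hP hw) hwZ (hP ((mem_normalizer_iff.1 hn w).1 hw))
    · show QuotientGroup.mk' R n = QuotientGroup.mk' R (n * m)
      rw [map_mul, show QuotientGroup.mk' R m = 1 from (QuotientGroup.eq_one_iff _).2 hm, mul_one]
  haveI : Group.IsSolvable (G ⧸ R) := Group.isSolvable_of_surjective hsurj
  exact Group.isSolvable_of_ker_le_range R.subtype (QuotientGroup.mk' R) (by simp)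

/-- Blocks of constant order make the group solvable. -/
theorem isSolvable_of_const (hq : q.Prime) : Group.IsSolvable G := by
  obtain ⟨R, hRn, hRs, hmax⟩ := exists_radical G
  have hZR : center G ≤ R := hmax _ inferInstance (Group.isSolvable_of_comm fun a b =>
    Subtype.ext (mem_center_iff.1 b.2 (a : G)))
  by_cases hall : ∀ t, Act G q t → Full G q t
  · haveI := hRs
    have hquot : Group.IsSolvable (G ⧸ R) := by
      refine CfsgLib.Char.isSolvable_of_two_primes q q hq hq _ _ rfl fun r hr hd => ?_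
      by_contra hne
      push Not at hne
      haveI := Fact.mk hr
      obtain ⟨T⟩ := (inferInstance : Nonempty (Sylow r G))
      refine T.not_dvd_index (hd.trans (index_dvd_of_le fun g hg => ?_))
      by_cases hgZ : g ∈ center G
      · exact hZR hgZ
      have hgp : PEl q g := ⟨hgZ, r, hr, hne.1, tel_of_mem T.2 hg⟩
      refine mem_radical_of_index hmax hq (Nat.eq_prime_pow_of_unique_prime_dvd
        index_ne_zero_of_finite fun {s} hs hd => ?_)
      by_contra hsq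
      haveI := Fact.mk hs
      exact not_dvd_index hB hC hsq (hall s) hgp hd
    exact Group.isSolvable_of_ker_le_range R.subtype (QuotientGroup.mk' R) (by simp)
  push Not at hall
  obtain ⟨t, ht, hft⟩ := hall
  haveI : Fact t.Prime := ⟨ht.1⟩
  have htq := ht.2.1
  have hfull : ∀ r, Act G q r → r ≠ t → Full G q r := fun r hr hrt => by
    by_contra hfr
    exact hrt (not_full_unique hB hC ht hr hft hfr)
  by_cases hex : ∃ r, Act G q r ∧ r ≠ t
  swap
  · push Not at hex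
    exact isSolvable_of_two q t hq ht.1 fun r g hr hrq hrt hg => by_contra fun hgZ =>
      hrt (hex r ⟨hr, hrq, g, hgZ, hg⟩)
  obtain ⟨r, hr, hrt⟩ := hex
  haveI : Fact r.Prime := ⟨hr.1⟩
  have hrq := hr.2.1
  -- central-modulo-centre elements of Sylow `t`-subgroups are in the radical
  have hzR : ∀ (T : Sylow t G) (z : G), PEl q z → (∀ g ∈ (T : Subgroup G), Fix g z) → z ∈ R := by
    intro T z hz hfix
    refine mem_radical_of_fix hmax hq fun s hs hsq => ?_
    haveI := Fact.mk hs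
    by_cases hst : s = t
    · subst hst; exact ⟨T, T.not_dvd_index, hfix⟩
    · exact ⟨Cz z, not_dvd_index hB hC hsq (fun h => hfull s h hst) hz,
        fun g hg => Fix.of_commute (mem_Cz.1 hg)⟩
  have hNs : ∀ u, PEl q u → Group.IsSolvable (normalizer (Cz u : Set G)) := fun u hu =>
    isSolvable_normalizer hB hC hq ht.1 hfull hu
  by_cases hr' : ∃ s, Act G q s ∧ s ≠ t ∧ ∃ g ∈ R, g ∉ center G ∧ Tel s g
  · obtain ⟨s, hs, hst, g, hgR, hgZ, hg⟩ := hr'
    haveI : Fact s.Prime := ⟨hs.1⟩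
    obtain ⟨k, hk⟩ := hg.exists_orderOf
    obtain ⟨P, hP⟩ := ((CfsgLib.ClassSize.Three.isPGroup_zpowers hk).comap_of_injective R.subtype
      Subtype.coe_injective).exists_le_sylow
    have hgP : g ∈ (P : Subgroup R).map R.subtype := ⟨⟨g, hgR⟩, hP (mem_zpowers g), rfl⟩
    obtain ⟨S, hS⟩ := (P.2.map R.subtype).exists_le_sylow
    obtain ⟨z, hzS, hz, -, hfix⟩ := exists_z2 hB hC hs S
    refine isSolvable_of_block hB hC hRs hs.2.1 P hz (hNs z hz) hgP hgZ (hS.trans fun x hx => ?_)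
    exact full_mem hB hC hs.2.1 (hfull s hs hst) hz (tel_of_mem S.2 hx) (hfix x hx).mem_normalizer
  push Not at hr'
  have hRcen : ∀ g ∈ R, Tel r g → g ∈ center G := fun g hg hgt =>
    by_contra fun hgZ => hr' r hr hrt g hg hgZ hgt
  obtain ⟨u, huZ, hu⟩ := hr.2.2
  have hup : PEl q u := ⟨huZ, r, hr.1, hrq, hu⟩
  obtain ⟨T₁, hT₁⟩ := (isPGroup_tp t u).exists_le_sylow
  obtain ⟨y, hy, hyZ, hyt, hyfix⟩ := exists_fix T₁.2 hT₁
    ((sylow_struct hB hC ht hr hrt hup hT₁).1.trans (hB.le_normalizer_tp ht.1 htq hup))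
    (not_le_center hB hC ht hup)
  have hyp : PEl q y := ⟨hyZ, t, ht.1, htq, hy.2.1⟩
  have hyR := hzR T₁ y hyp hyfix
  obtain ⟨P, hPR, hyP, hP, hPc, hPu⟩ := exists_invariant_sylow R hu hy.2.1 hyR hy.2.2.symm hRcen
  by_cases hblock : P ≤ tp t u
  · let P' : Sylow t R := Sylow.ofCard (P.subgroupOf R) (by
      rw [Nat.card_congr (subgroupOfEquivOfLe hPR).toEquiv, hPc])
    have he : (P' : Subgroup R).map R.subtype = P := by
      show (P.subgroupOf R).map R.subtype = P
      rw [subgroupOf_map_subtype, inf_eq_left.2 hPR]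
    exact isSolvable_of_block hB hC hRs htq P' hup (hNs u hup) (he.symm ▸ hyP) hyZ (he.symm ▸ hblock)
  exfalso
  obtain ⟨T₀, hT₀⟩ := hP.exists_le_sylow
  obtain ⟨z, hzT, hz, -, hfix⟩ := exists_z2 hB hC ht T₀
  have hzP : z ∈ P := by
    have hsub : (T₀ : Subgroup G) ⊓ R = P := (eq_of_full (le_inf hT₀ hPR) (T₀.2.to_le inf_le_left)
      inf_le_right hPc).symm
    rw [← hsub]
    exact ⟨hzT, hzR T₀ z hz hfix⟩
  obtain ⟨x, hxP, hxn, hxu⟩ : ∃ x ∈ P, x ∉ tp t u ∧ x ∈ normalizer (Cz u : Set G) := by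
    by_cases hzu : z ∈ tp t u
    · obtain ⟨x, hxP, hx⟩ := SetLike.not_le_iff_exists.1 hblock
      exact ⟨x, hxP, hx, (hB.Cz_eq ht.1 htq hup hzu hz.1) ▸ (hfix x (hT₀ hxP)).mem_normalizer⟩
    · refine ⟨z, hzP, hzu, ?_⟩
      rw [← hB.Cz_eq ht.1 htq hup hy hyZ]
      exact ((hfix y (hT₀ hyP)).symm).mem_normalizer
  have hum : u ∈ tp r u := (hB.mem_tp hr.1 hrq hup).2 ⟨hu, Commute.refl u⟩
  have h1 : x * u * x⁻¹ * u⁻¹ ∈ tp r u :=
    mul_mem (hB.conj_mem_tp hr.1 hrq hup hxu hum) (inv_mem hum)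
  have h2 : x * u * x⁻¹ * u⁻¹ ∈ P := by
    rw [show x * u * x⁻¹ * u⁻¹ = x * (u * x⁻¹ * u⁻¹) by group]
    exact mul_mem hxP (hPu _ (inv_mem hxP))
  have h3 : x * u * x⁻¹ * u⁻¹ = 1 := eq_one_of_tel hrt h1.2.1 (tel_of_mem hP h2)
  refine hxn ((hB.mem_tp ht.1 htq hup).2 ⟨tel_of_mem hP hxP, ?_⟩)
  exact commutatorElement_eq_one_iff_commute.1 h3

end

end CfsgLib.ThreeClass
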