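import Cfsg.Agent.Lib.ThreeClass.Basic

/-!
# Groups with three class sizes: local analysis at one prime

For a prime `t`, a `t`-group normalising the centraliser of a primary element induces on it a
group of order at most `t`, provided a further prime occurs.  Two blocks meeting a Sylow
`t`-subgroup give transvections and, for odd `t`, an element inverting both generators.
-/

set_option autoImplicit false
set_option linter.style.haveILetI false
set_option linter.unusedSectionVars false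

namespace CfsgLib.ThreeClass

open Subgroup CfsgLib.ClassSize.Three
open scoped commutatorElement

variable {G : Type*} [Group G]

/-- The averaging identity for two commuting automorphisms of order dividing `t`. -/
theorem pow_mem_of_two {M : Type*} [CommGroup M] {t : ℕ} [Fact t.Prime] (f g : MulAut M)
    (hf : f ^ t = 1) (hg : g ^ t = 1) (hfg : Commute f g) (K : Subgroup M)
    (h1 : ∀ (i : ℕ) (n : M), (f * g ^ i) n = n → n ∈ K) (h2 : ∀ n : M, g n = n → n ∈ K) (m : M) :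
    m ^ t ∈ K := by
  classical
  let E : ZMod t → ZMod t → M := fun a b => (f ^ a.val * g ^ b.val) m
  have hfv : ∀ a b : ℕ, a % t = b % t → f ^ a = f ^ b := fun a b h => by
    rw [← Nat.div_add_mod a t, ← Nat.div_add_mod b t, pow_add, pow_add, pow_mul, pow_mul, hf,
      one_pow, one_pow, h]
  have hgv : ∀ a b : ℕ, a % t = b % t → g ^ a = g ^ b := fun a b h => by
    rw [← Nat.div_add_mod a t, ← Nat.div_add_mod b t, pow_add, pow_add, pow_mul, pow_mul, hg,
      one_pow, one_pow, h]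
  have hshift : ∀ (a b : ℕ) (x y : ZMod t), (f ^ a * g ^ b) (E x y) = E ((a : ZMod t) + x) (b + y) := by
    intro a b x y
    show ((f ^ a * g ^ b) * (f ^ x.val * g ^ y.val)) m = _
    rw [(hfg.symm.pow_pow b x.val).mul_mul_mul_comm, ← pow_add, ← pow_add,
      hfv (a + x.val) ((a : ZMod t) + x).val ?_, hgv (b + y.val) ((b : ZMod t) + y).val ?_]
    all_goals rw [← ZMod.natCast_eq_natCast_iff', ZMod.natCast_val, ZMod.cast_id, Nat.cast_add,
      ZMod.natCast_val, ZMod.cast_id]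
  have hN : ∀ i : ZMod t, ∏ j, E j (i * j) ∈ K := by
    intro i
    refine h1 i.val _ ?_
    rw [map_prod]
    refine Fintype.prod_equiv (Equiv.addLeft (1 : ZMod t)) _ _ fun j => ?_
    have := hshift 1 i.val j (i * j)
    rw [pow_one] at this
    rw [this, ZMod.natCast_val, ZMod.cast_id, Nat.cast_one, Equiv.coe_addLeft, mul_add, mul_one]
  have hcol : ∀ a : ZMod t, ∏ b, E a b ∈ K := by
    intro a
    refine h2 _ ?_
    rw [map_prod]
    refine Fintype.prod_equiv (Equiv.addLeft (1 : ZMod t)) _ _ fun b => ?_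
    have := hshift 0 1 a b
    rw [pow_zero, one_mul, pow_one, Nat.cast_zero, zero_add, Nat.cast_one] at this
    exact this
  have htot : ∏ j, ∏ i, E j (i * j) ∈ K := by
    rw [Finset.prod_comm]
    exact prod_mem fun i _ => hN i
  rw [← Finset.mul_prod_erase Finset.univ _ (Finset.mem_univ 0)] at htot
  have hrest : ∀ j ∈ Finset.univ.erase (0 : ZMod t), ∏ i, E j (i * j) ∈ K := by
    intro j hj
    rw [Fintype.prod_equiv (Equiv.mulRight₀ j (Finset.ne_of_mem_erase hj)) (fun i => E j (i * j))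
      (fun b => E j b) fun i => rfl]
    exact hcol j
  have h0 := (Subgroup.mul_mem_cancel_right K (prod_mem hrest)).1 htot
  simpa [E] using h0

variable {q t : ℕ} [Finite G]

/-- The elements fixing `y` modulo the centre. -/
def fixer (y : G) : Subgroup G :=
  (Cz (QuotientGroup.mk' (center G) y)).comap (QuotientGroup.mk' (center G))

theorem mem_fixer {g y : G} : g ∈ fixer y ↔ Fix g y := by
  show QuotientGroup.mk' (center G) g ∈ Cz (QuotientGroup.mk' (center G) y) ↔ _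
  rw [mem_Cz, ← commutatorElement_eq_one_iff_commute, ← map_commutatorElement]
  exact QuotientGroup.eq_one_iff _

theorem mk_eq_iff {g h : G} : QuotientGroup.mk' (center G) g = QuotientGroup.mk' (center G) h ↔
    g * h⁻¹ ∈ center G := by
  rw [← mul_inv_eq_one, ← map_inv, ← map_mul]
  exact QuotientGroup.eq_one_iff _

theorem Cz_eq_of_mk {g h : G}
    (e : QuotientGroup.mk' (center G) g = QuotientGroup.mk' (center G) h) : Cz g = Cz h := by
  have := Cz_center_mul (mk_eq_iff.1 e) h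
  rwa [inv_mul_cancel_right] at this

section

variable [ht : Fact t.Prime] (hB : Blk G q) (htq : t ≠ q)

include hB htq

/-- A `t`-element fixing a coprime noncentral element of the block of `u` modulo the centre lies in
that block. -/
theorem mem_tp_of_fix {r : ℕ} [Fact r.Prime] (hrq : r ≠ q) (hrt : r ≠ t) {u δ g : G} (hu : PEl q u)
    (hδ : δ ∈ tp r u) (hδZ : δ ∉ center G) (hg : Tel t g) (hf : Fix g δ) : g ∈ tp t u := by
  refine (hB.mem_tp Fact.out htq hu).2 ⟨hg, ?_⟩
  have hc : Commute g δ := hf.commute (orderOf_coprime hrt.symm hg hδ.2.1)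
  have := hB.Cz_eq (Fact.out : r.Prime) hrq hu hδ hδZ
  rw [← mem_Cz, ← this, mem_Cz]
  exact hc

/-- A `t`-group normalising the centraliser of `u` induces at most a group of order `t` on it. -/
theorem normalizing_structure {r : ℕ} [Fact r.Prime] (hrq : r ≠ q) (hrt : r ≠ t) {u δ : G}
    (hu : PEl q u) (hδ : δ ∈ tp r u) (hδZ : δ ∉ center G) (hnc : ¬ tp t u ≤ center G)
    {P : Subgroup G} (hP : IsPGroup t P) (hPn : P ≤ normalizer (Cz u : Set G))
    (hle : tp t u ≤ P) :
    ∀ c ∈ P, c ^ t ∈ tp t u ∧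
      (c ∉ tp t u → ∀ g ∈ P, ∃ j : ℕ, g * (c ^ j)⁻¹ ∈ tp t u) := by
  obtain ⟨z, hz, hzZ, hzt, hfix⟩ := exists_fix hP hle
    (hPn.trans (hB.le_normalizer_tp Fact.out htq hu)) hnc
  have hzc : Cz z = Cz u := hB.Cz_eq Fact.out htq hu hz hzZ
  have hcent : ∀ g ∈ P, Commute g z → g ∈ tp t u := fun g hg hc =>
    (hB.mem_tp Fact.out htq hu).2 ⟨tel_of_mem hP hg, mem_Cz.1 (hzc ▸ mem_Cz.2 hc)⟩
  have hpow : ∀ c ∈ P, c ^ t ∈ tp t u := fun c hc => hcent _ (pow_mem hc t)
    (commute_pow_and_commutator hzt (fix_iff.1 (hfix c hc)) (fix_iff.1 (hfix c hc))).1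
  refine fun c hc => ⟨hpow c hc, fun hct g hg => ?_⟩
  by_contra hno
  push Not at hno
  -- `g * c ^ i` avoids the block for all `i`
  set M := tp r u with hM
  have hn : P ≤ normalizer (M : Set G) := hPn.trans (hB.le_normalizer_tp Fact.out hrq hu)
  letI : CommGroup M :=
    { (inferInstance : Group M) with
      mul_comm := fun a b => Subtype.ext (tp_commute a.2 b.2).eq }
  let φ : P →* MulAut M := M.normalizerMonoidHom.comp (Subgroup.inclusion hn)
  have hφ : ∀ (x : P) (m : M), ((φ x m : M) : G) = x * m * (x : G)⁻¹ := fun _ _ => rfl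
  have hker : ∀ x : P, (x : G) ∈ tp t u → φ x = 1 := fun x hx => MulEquiv.ext fun m =>
    Subtype.ext (by rw [hφ]; exact mul_inv_eq_iff_eq_mul.2 (tp_commute hx m.2).eq)
  have hord : ∀ x : P, φ x ^ t = 1 := fun x => by
    rw [← map_pow]; exact hker _ (hpow x x.2)
  have hfx : ∀ (x : P) (n : M), (x : G) ∉ tp t u → φ x n = n → n ∈ (center G).subgroupOf M := by
    intro x n hx he
    by_contra hnZ
    refine hx (mem_tp_of_fix hB htq hrq hrt hu n.2 (fun h => hnZ h) (tel_of_mem hP x.2)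
      (Fix.of_commute ?_))
    have := congrArg Subtype.val he
    rw [hφ] at this
    exact mul_inv_eq_iff_eq_mul.1 this
  have hcomm : Commute (φ ⟨g, hg⟩) (φ ⟨c, hc⟩) := by
    rw [← commutatorElement_eq_one_iff_commute, ← map_commutatorElement]
    exact hker _ (hcent _ (⁅(⟨g, hg⟩ : P), (⟨c, hc⟩ : P)⁆).2
      (commute_pow_and_commutator hzt (fix_iff.1 (hfix g hg)) (fix_iff.1 (hfix c hc))).2)
  have h := pow_mem_of_two (φ ⟨g, hg⟩) (φ ⟨c, hc⟩) (hord _) (hord _) hcomm
    ((center G).subgroupOf M) (fun i n hn' => hfx (⟨g, hg⟩ * ⟨c, hc⟩ ^ i) n (fun hm => by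
      -- `c ^ i` is the inverse of some power of `c` modulo the block
      have h2 : c ^ (t * i) ∈ tp t u := by rw [pow_mul]; exact pow_mem (hpow c hc) i
      refine hno ((t - 1) * i) ?_
      have e : g * (c ^ ((t - 1) * i))⁻¹ = g * c ^ i * (c ^ (t * i))⁻¹ := by
        rw [show t * i = (t - 1) * i + i by
          rw [← Nat.succ_mul, Nat.succ_eq_add_one, Nat.sub_add_cancel ht.out.one_le], pow_add,
          mul_inv_rev, mul_assoc, mul_inv_cancel_left]
      rw [e]
      exact mul_mem (by simpa using hm) (inv_mem h2)) (by rw [map_mul, map_pow]; exact hn'))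
    (fun n hn' => hfx _ n hct hn') ⟨δ, hδ⟩
  obtain ⟨k, hk⟩ := hδ.2.1.exists_orderOf
  refine hδZ ?_
  obtain ⟨m, hm⟩ := exists_pow_eq_self_of_coprime (x := δ) (n := t)
    (by rw [hk]; exact Nat.Coprime.pow_right k ((Nat.coprime_primes ht.out Fact.out).2 hrt.symm))
  rw [← hm]
  exact pow_mem (by simpa [mem_subgroupOf] using h) m

/-- The order bound. -/
theorem card_le_mul {r : ℕ} [Fact r.Prime] (hrq : r ≠ q) (hrt : r ≠ t) {u δ : G}
    (hu : PEl q u) (hδ : δ ∈ tp r u) (hδZ : δ ∉ center G) (hnc : ¬ tp t u ≤ center G)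
    {P : Subgroup G} (hP : IsPGroup t P) (hPn : P ≤ normalizer (Cz u : Set G))
    (hle : tp t u ≤ P) (hne : tp t u ≠ P) : Nat.card P = t * Nat.card (tp t u) := by
  have hst := normalizing_structure hB htq hrq hrt hu hδ hδZ hnc hP hPn hle
  obtain ⟨c, hc, hct⟩ := SetLike.exists_of_lt (lt_of_le_of_ne hle hne)
  have hpow := (hst c hc).1
  have hdec := (hst c hc).2 hct
  refine le_antisymm ?_ ?_
  · let f : Fin t × tp t u → P := fun x => ⟨(x.2 : G) * c ^ (x.1 : ℕ), mul_mem (hle x.2.2) (pow_mem hc _)⟩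
    have hf : Function.Surjective f := by
      rintro ⟨g, hg⟩
      obtain ⟨j, hj⟩ := hdec g hg
      refine ⟨⟨⟨j % t, Nat.mod_lt _ ht.out.pos⟩, ⟨g * (c ^ j)⁻¹ * (c ^ t) ^ (j / t),
        mul_mem hj (pow_mem hpow _)⟩⟩, Subtype.ext ?_⟩
      show g * (c ^ j)⁻¹ * (c ^ t) ^ (j / t) * c ^ (j % t) = g
      rw [mul_assoc, ← pow_mul, ← pow_add, Nat.div_add_mod, inv_mul_cancel_right]
    refine (Nat.card_le_card_of_surjective f hf).trans ?_
    simp [Nat.card_prod]
  · obtain ⟨i, hi⟩ := IsPGroup.iff_card.1 (isPGroup_tp t u)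
    obtain ⟨j, hj⟩ := IsPGroup.iff_card.1 hP
    have hlt : Nat.card (tp t u) < Nat.card P := by
      refine lt_of_le_of_ne (Nat.le_of_dvd Nat.card_pos (card_dvd_of_le hle)) fun h => hne ?_
      exact eq_of_le_of_card_ge hle h.ge
    rw [hi, hj] at hlt ⊢
    rw [← pow_succ']
    exact Nat.pow_le_pow_right ht.out.pos ((Nat.pow_lt_pow_iff_right ht.out.one_lt).1 hlt)

/-- The part of the block of `x` fixing `y` is cyclic modulo the centre. -/
theorem fixed_cyclic {r : ℕ} [Fact r.Prime] (hrq : r ≠ q) (hrt : r ≠ t) {x y δ : G} (hx : PEl q x)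
    (hy : PEl q y) (hyt : Tel t y) (hδ : δ ∈ tp r y) (hδZ : δ ∉ center G) {v w : G}
    (hv : v ∈ tp t x) (hw : w ∈ tp t x) (hvy : Fix v y) (hwy : Fix w y) (hvn : v ∉ tp t y) :
    ∃ j : ℕ, w * (v ^ j)⁻¹ ∈ center G := by
  set P := (tp t x ⊓ fixer y) ⊔ tp t y with hPdef
  have hn : tp t x ⊓ fixer y ≤ normalizer (Cz y : Set G) := fun g hg => (mem_fixer.1 hg.2).mem_normalizer
  have hP : IsPGroup t P :=
    IsPGroup.to_sup_of_normal_right' ((isPGroup_tp t x).to_le inf_le_left) (isPGroup_tp t y)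
      (hn.trans (hB.le_normalizer_tp Fact.out htq hy))
  have hPn : P ≤ normalizer (Cz y : Set G) := sup_le hn ((tp_le t y).trans le_normalizer)
  have hnc : ¬ tp t y ≤ center G :=
    fun h => hy.1 (h ((hB.mem_tp Fact.out htq hy).2 ⟨hyt, Commute.refl y⟩))
  obtain ⟨j, hj⟩ := (normalizing_structure hB htq hrq hrt hy hδ hδZ hnc hP hPn le_sup_right v
    (mem_sup_left ⟨hv, mem_fixer.2 hvy⟩)).2 hvn w (mem_sup_left ⟨hw, mem_fixer.2 hwy⟩)
  refine ⟨j, by_contra fun hZ => hvn ?_⟩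
  have hmem : w * (v ^ j)⁻¹ ∈ tp t x := mul_mem hw (inv_mem (pow_mem hv j))
  have e : Cz x = Cz y := by
    rw [← hB.Cz_eq Fact.out htq hx hmem hZ, hB.Cz_eq Fact.out htq hy hj hZ]
  rw [← hB.tp_eq hx hy e Fact.out htq]
  exact hv

/-- A transvection on two blocks. -/
theorem transvection {r : ℕ} [Fact r.Prime] (hrq : r ≠ q) (hrt : r ≠ t) {x y δ : G} (hx : PEl q x)
    (hy : PEl q y) (hxt : Tel t x) (hyt : Tel t y) (hxy : Fix x y) (hne : x ∉ tp t y)
    (hδ : δ ∈ tp r y) (hδZ : δ ∉ center G)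
    (hbig : ∃ w ∈ tp t x, ∀ j : ℕ, w * (x ^ j)⁻¹ ∉ center G) :
    ∃ a ∈ tp t x, ∃ i : ℕ, x ^ i ∉ center G ∧ Commute a x ∧
      a * y * a⁻¹ * (x ^ i * y)⁻¹ ∈ center G := by
  have hxm : x ∈ tp t x := (hB.mem_tp Fact.out htq hx).2 ⟨hxt, Commute.refl x⟩
  have hcyc : ∀ w ∈ tp t x, Fix w y → ∃ j : ℕ, w * (x ^ j)⁻¹ ∈ center G := fun w hw hwy =>
    fixed_cyclic hB htq hrq hrt hx hy hyt hδ hδZ hxm hw hxy hwy hne
  obtain ⟨w0, hw0, hw0j⟩ := hbig
  have hyn : y ∈ normalizer (Cz x : Set G) := hxy.symm.mem_normalizer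
  set P := zpowers y ⊔ tp t x with hPdef
  have hP : IsPGroup t P :=
    IsPGroup.to_sup_of_normal_right' (CfsgLib.ClassSize.Three.isPGroup_zpowers (hyt.exists_orderOf).choose_spec)
      (isPGroup_tp t x) (zpowers_le.2 (hB.le_normalizer_tp Fact.out htq hx hyn))
  haveI : Group.IsNilpotent P := hP.isNilpotent
  obtain ⟨N, hN⟩ := (isNilpotent_iff_lowerCentralSeries P).1 inferInstance
  have hstep : ∀ w ∈ tp t x, w * y * w⁻¹ * y⁻¹ ∈ tp t x := fun w hw => by
    rw [show w * y * w⁻¹ * y⁻¹ = w * (y * w⁻¹ * y⁻¹) by group]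
    exact mul_mem hw (hB.conj_mem_tp Fact.out htq hx hyn (inv_mem hw))
  obtain ⟨a, ha, haf, hanext⟩ : ∃ a ∈ tp t x, ¬ Fix a y ∧ Fix (a * y * a⁻¹ * y⁻¹) y := by
    by_contra hno
    push Not at hno
    have hseq : ∀ n, ∃ w ∈ tp t x, ¬ Fix w y ∧ w ∈ P.lowerCentralSeries n := by
      intro n
      induction n with
      | zero =>
        refine ⟨w0, hw0, fun h => ?_, mem_sup_right hw0⟩
        obtain ⟨j, hj⟩ := hcyc w0 hw0 h
        exact hw0j j hj
      | succ n ih =>
        obtain ⟨w, hw, hwf, hwn⟩ := ih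
        refine ⟨_, hstep w hw, hno w hw hwf, ?_⟩
        rw [Subgroup.lowerCentralSeries_succ]
        exact commutator_mem_commutator hwn (mem_sup_left (mem_zpowers y))
    obtain ⟨w, hw, hwf, hwn⟩ := hseq N
    rw [hN, mem_bot] at hwn
    exact hwf (hwn ▸ Fix.of_commute (Commute.one_left y))
  obtain ⟨i, hi⟩ := hcyc _ (hstep a ha) hanext
  refine ⟨a, ha, i, fun h => haf ?_, tp_commute ha hxm, ?_⟩
  · show a * y * a⁻¹ * y⁻¹ ∈ center G
    have := mul_mem hi h
    rwa [inv_mul_cancel_right] at this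
  · rwa [mul_inv_rev, ← mul_assoc]

end

/-- Two opposite transvections give an element of `2`-power order inverting both generators. -/
theorem exists_inverting [ht : Fact t.Prime] (ht2 : t ≠ 2) {x y a b : G} (hxt : x ^ t ∈ center G)
    (hyt : y ^ t ∈ center G) (hxy : Fix x y) {i j : ℕ} (hi : x ^ i ∉ center G) (hj : y ^ j ∉ center G)
    (hax : Commute a x) (hay : a * y * a⁻¹ * (x ^ i * y)⁻¹ ∈ center G) (hby : Commute b y)
    (hbx : b * x * b⁻¹ * (y ^ j * x)⁻¹ ∈ center G) :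
    ∃ u : G, Tel 2 u ∧ u * x * u⁻¹ * x ∈ center G ∧ u * y * u⁻¹ * y ∈ center G := by
  set π := QuotientGroup.mk' (center G) with hπ
  have hX : π x ^ t = 1 := by rw [← map_pow]; exact (QuotientGroup.eq_one_iff _).2 hxt
  have hY : π y ^ t = 1 := by rw [← map_pow]; exact (QuotientGroup.eq_one_iff _).2 hyt
  have hXY : Commute (π x) (π y) := by
    rw [← commutatorElement_eq_one_iff_commute, ← map_commutatorElement]
    exact (QuotientGroup.eq_one_iff _).2 hxy
  have hcop : ∀ {z : G} {n : ℕ}, z ^ t ∈ center G → z ^ n ∉ center G → n.Coprime t := by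
    intro z n hz hzn
    refine (Nat.coprime_comm.1 ((Nat.Prime.coprime_iff_not_dvd ht.out).2 fun hd => hzn ?_))
    obtain ⟨l, rfl⟩ := hd
    rw [pow_mul]
    exact pow_mem hz l
  have hsolve : ∀ {n : ℕ}, n.Coprime t → ∀ e : ℕ, ∃ m : ℕ, n * m % t = e % t := by
    intro n hn e
    obtain ⟨l, -, hl⟩ := Nat.exists_mul_mod_eq_one_of_coprime hn ht.out.one_lt
    exact ⟨l * e, by rw [← mul_assoc, Nat.mul_mod, hl, one_mul, Nat.mod_mod]⟩
  obtain ⟨m, hm⟩ := hsolve (hcop hxt hi) 1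
  obtain ⟨n, hn⟩ := hsolve (hcop hyt hj) (t - 1)
  -- the two transvections in the central quotient
  have hpow : ∀ {A X Y : G ⧸ center G} {l : ℕ}, Commute A X → Commute X Y → A * Y * A⁻¹ = X ^ l * Y →
      ∀ k : ℕ, A ^ k * Y * (A ^ k)⁻¹ = X ^ (l * k) * Y := by
    intro A X Y l hAX _ hA k
    induction k with
    | zero => simp
    | succ k ih =>
      rw [pow_succ', mul_inv_rev, show A * A ^ k * Y * ((A ^ k)⁻¹ * A⁻¹) = A * (A ^ k * Y * (A ^ k)⁻¹) * A⁻¹ by group,
        ih, show A * (X ^ (l * k) * Y) * A⁻¹ = (A * X ^ (l * k)) * A⁻¹ * (A * Y * A⁻¹) by group,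
        (hAX.pow_right (l * k)).eq, mul_inv_cancel_right, hA, ← mul_assoc, ← pow_add, Nat.mul_succ]
  have hA := hpow (A := π a) (X := π x) (Y := π y) (l := i) (hax.map π) hXY (by
    have := mk_eq_iff.2 hay
    simpa only [map_mul, map_inv, map_pow] using this) m
  have hBm := hpow (A := π b) (X := π y) (Y := π x) (l := j) (hby.map π) hXY.symm (by
    have := mk_eq_iff.2 hbx
    simpa only [map_mul, map_inv, map_pow] using this) n
  rw [pow_eq_pow_mod (i * m) hX, hm, Nat.one_mod_eq_one.2 ht.out.ne_one, pow_one] at hA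
  have hYinv : π y ^ (j * n) = (π y)⁻¹ := by
    rw [pow_eq_pow_mod (j * n) hY, hn, Nat.mod_eq_of_lt (Nat.sub_lt ht.out.pos one_pos)]
    refine eq_inv_of_mul_eq_one_left ?_
    rw [← pow_succ, Nat.sub_add_cancel ht.out.one_le, hY]
  rw [hYinv] at hBm
  set A := MulAut.conj (π a ^ m) with hAdef
  set B := MulAut.conj (π b ^ n) with hBdef
  have a1 : A (π x) = π x := by
    rw [hAdef, MulAut.conj_apply, ((hax.map π).pow_left m).eq, mul_inv_cancel_right]
  have a2 : A (π y) = π x * π y := by rw [hAdef, MulAut.conj_apply, hA]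
  have b1 : B (π x) = (π y)⁻¹ * π x := by rw [hBdef, MulAut.conj_apply, hBm]
  have b2 : B (π y) = π y := by
    rw [hBdef, MulAut.conj_apply, ((hby.map π).pow_left n).eq, mul_inv_cancel_right]
  set w := a ^ m * b ^ n * a ^ m with hw
  have hwmap : MulAut.conj (π w) = A * B * A := by
    simp only [hw, hAdef, hBdef, map_mul, map_pow]
  have w1 : MulAut.conj (π w) (π x) = (π y)⁻¹ := by
    rw [hwmap, MulAut.mul_apply, MulAut.mul_apply, a1, b1, map_mul, map_inv, a1, a2, mul_inv_rev,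
      inv_mul_cancel_right]
  have w2 : MulAut.conj (π w) (π y) = π x := by
    rw [hwmap, MulAut.mul_apply, MulAut.mul_apply, a2, map_mul, b1, b2, mul_assoc, hXY.eq,
      inv_mul_cancel_left, a1]
  set u0 := w * w with hu0
  have u1 : MulAut.conj (π u0) (π x) = (π x)⁻¹ := by
    rw [hu0, map_mul, map_mul, MulAut.mul_apply, w1, map_inv, w2]
  have u2 : MulAut.conj (π u0) (π y) = (π y)⁻¹ := by
    rw [hu0, map_mul, map_mul, MulAut.mul_apply, w2, w1]
  -- pass to the two-part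
  obtain ⟨k, o, ho, hN⟩ := Nat.exists_eq_pow_mul_and_not_dvd (orderOf_pos u0).ne' 2 (by norm_num)
  have hodd : ∀ Z : G ⧸ center G, MulAut.conj (π u0) Z = Z⁻¹ → ∀ e : ℕ,
      MulAut.conj (π (u0 ^ (2 * e + 1))) Z = Z⁻¹ := by
    intro Z hZ e
    have h2 : MulAut.conj (π u0) (MulAut.conj (π u0) Z) = Z := by rw [hZ, map_inv, hZ, inv_inv]
    induction e with
    | zero => simpa using hZ
    | succ e ih =>
      rw [show 2 * (e + 1) + 1 = 1 + 1 + (2 * e + 1) by ring, pow_add, map_mul, map_mul,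
        MulAut.mul_apply, ih, pow_add, pow_one, map_mul, map_mul, MulAut.mul_apply, map_inv, map_inv, h2]
  obtain ⟨e, he⟩ : Odd o := Nat.odd_iff.2 (by omega)
  refine ⟨u0 ^ o, ⟨k, by rw [← pow_mul, mul_comm, ← hN, pow_orderOf_eq_one]⟩, ?_, ?_⟩
  · have := hodd _ u1 e
    rw [← he, MulAut.conj_apply, eq_inv_iff_mul_eq_one, ← map_inv, ← map_mul, ← map_mul, ← map_mul]
      at this
    exact (QuotientGroup.eq_one_iff _).1 this
  · have := hodd _ u2 e
    rw [← he, MulAut.conj_apply, eq_inv_iff_mul_eq_one, ← map_inv, ← map_mul, ← map_mul, ← map_mul]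
      at this
    exact (QuotientGroup.eq_one_iff _).1 this

/-- An involutory fixed point free action makes inversion of an outer element impossible. -/
theorem false_of_inverting [ht : Fact t.Prime] (hB : Blk G 2) (ht2 : t ≠ 2) {r : ℕ} [Fact r.Prime]
    (hr2 : r ≠ 2) (hrt : r ≠ t) {x y u δ : G} (hx : PEl 2 x) (hxt : Tel t x) (hyt : Tel t y)
    (hxy : Fix x y) (hne : y ∉ tp t x) (hδ : δ ∈ tp r x) (hδZ : δ ∉ center G) (hu : Tel 2 u)
    (hux : u * x * u⁻¹ * x ∈ center G) (huy : u * y * u⁻¹ * y ∈ center G) : False := by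
  set π := QuotientGroup.mk' (center G) with hπ
  have hinv : ∀ {g : G}, u * g * u⁻¹ * g ∈ center G → π u * π g * (π u)⁻¹ = (π g)⁻¹ := by
    intro g hg
    rw [eq_inv_iff_mul_eq_one, ← map_inv, ← map_mul, ← map_mul, ← map_mul]
    exact (QuotientGroup.eq_one_iff _).2 hg
  have hX := hinv hux
  have hY := hinv huy
  have hun : u ∈ normalizer (Cz x : Set G) := by
    refine normalizer_of_Cz ?_
    rw [Cz_eq_of_mk (g := u * x * u⁻¹) (h := x⁻¹) (by simp only [map_mul, map_inv]; exact hX)]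
    ext g; simp [mem_Cz]
  have hyn : y ∈ normalizer (Cz x : Set G) := hxy.symm.mem_normalizer
  have hnc : ¬ Commute u x := by
    intro h
    refine hx.1 ?_
    have h2 : x ^ 2 ∈ center G := by rwa [h.eq, mul_inv_cancel_right, ← sq] at hux
    obtain ⟨k, hk⟩ := hxt.exists_orderOf
    obtain ⟨m, hm⟩ := exists_pow_eq_self_of_coprime (x := x) (n := 2)
      (by rw [hk]; exact Nat.Coprime.pow_right k ((Nat.coprime_primes Nat.prime_two ht.out).2 ht2.symm))
    rw [← hm]
    exact pow_mem h2 m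
  -- the square of `u` commutes with `x`
  have hu2 : Commute (u ^ 2) x := by
    refine Fix.commute ?_ (orderOf_coprime (t := 2) (r := t) ht2.symm ?_ hxt)
    · refine (QuotientGroup.eq_one_iff _).1 ?_
      show π (u ^ 2 * x * (u ^ 2)⁻¹ * x⁻¹) = 1
      simp only [map_mul, map_inv, map_pow]
      rw [sq, show π u * π u * π x * (π u * π u)⁻¹ = π u * (π u * π x * (π u)⁻¹) * (π u)⁻¹ by group,
        hX, show π u * (π x)⁻¹ * (π u)⁻¹ = (π u * π x * (π u)⁻¹)⁻¹ by group, hX, inv_inv, mul_inv_cancel]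
    · obtain ⟨k, hk⟩ := hu
      exact ⟨k, by rw [← pow_mul, mul_comm, pow_mul, hk, one_pow]⟩
  have hflip : ∀ ε ∈ tp r x, π u * π ε * (π u)⁻¹ = (π ε)⁻¹ := by
    intro ε hε
    set ε' := u * ε * u⁻¹ with hε'
    have hmem : ε' ∈ tp r x := hB.conj_mem_tp Fact.out hr2 hx hun hε
    have hprod : ε * ε' ∈ center G := by
      by_contra hZ
      refine hnc ?_
      have hc : Commute ε (u ^ 2) := mem_Cz.1 (by
        have : Cz x ≤ Cz ε := hε.1
        exact this (mem_Cz.2 hu2)) |>.symm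
      have hfix : Commute u (ε * ε') := by
        rw [Commute, SemiconjBy]
        calc u * (ε * ε') = (u * ε * u⁻¹) * (u ^ 2 * ε * (u ^ 2)⁻¹) * u := by rw [hε', sq]; group
          _ = (u * ε * u⁻¹) * ε * u := by rw [← hc.eq, mul_inv_cancel_right]
          _ = ε * ε' * u := by rw [← hε', (tp_commute hmem hε).eq]
      rw [← mem_Cz, ← hB.Cz_eq Fact.out hr2 hx (mul_mem hε hmem) hZ, mem_Cz]
      exact hfix
    have := (QuotientGroup.eq_one_iff _).2 hprod
    change π (ε * ε') = 1 at this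
    rw [map_mul, hε', map_mul, map_mul, map_inv] at this
    exact eq_inv_of_mul_eq_one_right this
  have h1 := hflip _ (hB.conj_mem_tp Fact.out hr2 hx hyn hδ)
  have h2 := hflip _ hδ
  simp only [map_mul, map_inv] at h1
  rw [show π u * (π y * π δ * (π y)⁻¹) * (π u)⁻¹ = (π u * π y * (π u)⁻¹) * (π u * π δ * (π u)⁻¹) *
    (π u * π y * (π u)⁻¹)⁻¹ by group, hY, h2, inv_inv, mul_inv_rev, mul_inv_rev, inv_inv] at h1
  -- hence the square of `y` fixes `δ`
  have hfix : Fix (y ^ 2) δ := by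
    refine (QuotientGroup.eq_one_iff _).1 ?_
    show π (y ^ 2 * δ * (y ^ 2)⁻¹ * δ⁻¹) = 1
    simp only [map_mul, map_inv, map_pow]
    calc π y ^ 2 * π δ * (π y ^ 2)⁻¹ * (π δ)⁻¹
        = π y * (π y * ((π δ)⁻¹ * (π y)⁻¹))⁻¹⁻¹⁻¹ * (π y)⁻¹ * (π δ)⁻¹ := by rw [sq]; group
      _ = 1 := by rw [← h1]; group
  have hy2 : y ^ 2 ∈ tp t x := mem_tp_of_fix hB ht2 hr2 hrt hx hδ hδZ (by
    obtain ⟨k, hk⟩ := hyt
    exact ⟨k, by rw [← pow_mul, mul_comm, pow_mul, hk, one_pow]⟩) hfix
  obtain ⟨k, hk⟩ := hyt.exists_orderOf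
  obtain ⟨m, hm⟩ := exists_pow_eq_self_of_coprime (x := y) (n := 2)
    (by rw [hk]; exact Nat.Coprime.pow_right k ((Nat.coprime_primes Nat.prime_two ht.out).2 ht2.symm))
  exact hne (hm ▸ pow_mem hy2 m)

/-- A prime element of order prime to `t - 1` fixes a normalised element of order `t` modulo the
centre. -/
theorem fix_of_cyclic [ht : Fact t.Prime] {s : ℕ} (hs : s.Prime) (hst : (s).Coprime (t - 1))
    {σ x : G} (hσ : Tel s σ) (hx : x ∉ center G) (hxt : x ^ t ∈ center G)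
    (hσx : ∃ i : ℕ, σ * x * σ⁻¹ * (x ^ i)⁻¹ ∈ center G) : Fix σ x := by
  obtain ⟨i, hi⟩ := hσx
  obtain ⟨k, hk⟩ := hσ
  set π := QuotientGroup.mk' (center G) with hπ
  have hX : π x ^ t = 1 := by rw [← map_pow]; exact (QuotientGroup.eq_one_iff _).2 hxt
  have hX1 : π x ≠ 1 := fun h => hx ((QuotientGroup.eq_one_iff _).1 h)
  have hord : orderOf (π x) = t := orderOf_eq_prime hX hX1
  have h1 : π σ * π x * (π σ)⁻¹ = π x ^ i := by
    have := mk_eq_iff.2 hi
    simpa only [map_mul, map_inv, map_pow] using this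
  have hit : ∀ n : ℕ, π σ ^ n * π x * (π σ ^ n)⁻¹ = π x ^ (i ^ n) := by
    intro n
    induction n with
    | zero => simp
    | succ n ih =>
      rw [pow_succ', show π σ * π σ ^ n * π x * (π σ * π σ ^ n)⁻¹ = π σ * (π σ ^ n * π x * (π σ ^ n)⁻¹) * (π σ)⁻¹ by group,
        ih, ← conj_pow, h1, ← pow_mul, pow_succ']
  have h2 := hit (s ^ k)
  rw [← map_pow, hk, map_one, one_mul, inv_one, mul_one] at h2
  nth_rw 1 [← pow_one (π x)] at h2
  have h3 : ((i : ZMod t)) ^ (s ^ k) = 1 := by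
    have := pow_eq_pow_iff_modEq.1 h2
    rw [hord] at this
    have := (ZMod.natCast_eq_natCast_iff _ _ _).2 this
    simpa using this.symm
  have hi0 : (i : ZMod t) ≠ 0 := fun h => by
    rw [h, zero_pow (pow_ne_zero _ hs.ne_zero)] at h3; exact zero_ne_one h3
  have h4 : (i : ZMod t) = 1 := by
    have h5 := ZMod.pow_card_sub_one_eq_one hi0
    have hd := Nat.dvd_gcd (orderOf_dvd_of_pow_eq_one h3) (orderOf_dvd_of_pow_eq_one h5)
    rwa [(Nat.Coprime.pow_left k hst).gcd_eq_one, Nat.dvd_one, orderOf_eq_one_iff] at hd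
  have h6 : π x ^ i = π x := by
    nth_rw 2 [← pow_one (π x)]
    rw [pow_eq_pow_iff_modEq, hord, ← ZMod.natCast_eq_natCast_iff, h4, Nat.cast_one]
  rw [h6] at h1
  refine (QuotientGroup.eq_one_iff _).1 ?_
  show π (σ * x * σ⁻¹ * x⁻¹) = 1
  simp only [map_mul, map_inv]
  rw [h1, mul_inv_cancel]

end CfsgLib.ThreeClass
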