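import Cfsg.Agent.Lib.ThreeClass.Local

/-!
# An invariant Sylow subgroup of the radical

If every `r`-element of the normal subgroup `R` is central, an `r`-element centralising the
`t`-element `y` of `R` normalises some Sylow `t`-subgroup of `R` containing `y`.
-/

set_option autoImplicit false
set_option linter.style.haveILetI false
set_option linter.unusedSectionVars false

namespace CfsgLib.ThreeClass

open Subgroup CfsgLib.ClassSize.Three
open scoped Pointwise

variable {G : Type*} [Group G] [Finite G]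

/-- A Sylow subgroup of a normalised subgroup fixed by an `r`-element. -/
theorem exists_fixed_sylow {t r : ℕ} [Fact t.Prime] [Fact r.Prime] (H : Subgroup G) {ρ : G}
    (hρ : Tel r ρ) (hn : ρ ∈ normalizer (H : Set G))
    (hcen : ∀ g ∈ H, Tel r g → g ∈ center G) :
    ∃ S : Sylow t H, ∀ g : H, g ∈ (S : Subgroup H) →
      ∃ g' : H, g' ∈ (S : Subgroup H) ∧ (g' : G) = ρ * g * ρ⁻¹ := by
  let φ : zpowers ρ →* MulAut H := H.normalizerMonoidHom.comp (Subgroup.inclusion (zpowers_le.2 hn))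
  letI : MulDistribMulAction (zpowers ρ) H := MulDistribMulAction.compHom H φ
  have hA : IsPGroup r (zpowers ρ) := by
    obtain ⟨k, hk⟩ := hρ.exists_orderOf
    exact CfsgLib.ClassSize.Three.isPGroup_zpowers hk
  obtain ⟨S₀⟩ := (inferInstance : Nonempty (Sylow t H))
  have hnd : ¬ r ∣ Nat.card (Sylow t H) := by
    rw [S₀.card_eq_index_normalizer]
    obtain ⟨E⟩ := (inferInstance : Nonempty (Sylow r H))
    refine fun hd => E.not_dvd_index (hd.trans (index_dvd_of_le fun g hg => ?_))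
    have hgZ := hcen g g.2 (tel_of_mem (E.2.map H.subtype) ⟨g, hg, rfl⟩)
    refine mem_normalizer_iff.2 fun x => ?_
    have e : g * x * g⁻¹ = x := Subtype.ext (by
      show (g : G) * x * (g : G)⁻¹ = x
      rw [← mem_center_iff.1 hgZ x, mul_inv_cancel_right])
    rw [e]
  obtain ⟨S, hS⟩ := hA.nonempty_fixed_point_of_prime_not_dvd_card (Sylow t H) hnd
  refine ⟨S, fun g hg => ⟨(⟨ρ, mem_zpowers ρ⟩ : zpowers ρ) • g, ?_, rfl⟩⟩
  have h1 := hS ⟨ρ, mem_zpowers ρ⟩
  have h2 := Subgroup.smul_mem_pointwise_smul g (⟨ρ, mem_zpowers ρ⟩ : zpowers ρ) (S : Subgroup H) hg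
  rwa [← Sylow.pointwise_smul_def, h1] at h2

/-- An invariant Sylow subgroup of `R` containing a centralised element. -/
theorem exists_invariant_sylow {t r : ℕ} [Fact t.Prime] [Fact r.Prime] (R : Subgroup G) [R.Normal]
    {ρ y : G} (hρ : Tel r ρ) (hy : Tel t y) (hyR : y ∈ R) (hc : Commute ρ y)
    (hcen : ∀ g ∈ R, Tel r g → g ∈ center G) :
    ∃ P : Subgroup G, P ≤ R ∧ y ∈ P ∧ IsPGroup t P ∧
      Nat.card P = t ^ (Nat.card R).factorization t ∧ ∀ g ∈ P, ρ * g * ρ⁻¹ ∈ P := by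
  classical
  obtain ⟨k, hk⟩ := hy.exists_orderOf
  have h0 : zpowers y ∈ {P : Subgroup G | P ≤ R ∧ y ∈ P ∧ IsPGroup t P ∧ ∀ g ∈ P, ρ * g * ρ⁻¹ ∈ P} := by
    refine ⟨zpowers_le.2 hyR, mem_zpowers y, CfsgLib.ClassSize.Three.isPGroup_zpowers hk, ?_⟩
    rintro _ ⟨i, rfl⟩
    rw [(hc.zpow_right i).eq, mul_inv_cancel_right]
    exact zpow_mem (mem_zpowers y) i
  obtain ⟨P, ⟨hPR, hyP, hP, hPρ⟩, hmax⟩ := Set.Finite.exists_maximal (Set.toFinite _) ⟨_, h0⟩
  obtain ⟨j, hj, hPc⟩ := le_of_isPGroup hP hPR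
  refine ⟨P, hPR, hyP, hP, ?_, hPρ⟩
  by_contra hlt
  obtain ⟨T, hTR, hPT, hT, hTc⟩ := exists_full t R hP hPR
  have hlt' : P < T := lt_of_le_of_ne hPT fun e => hlt (e ▸ hTc)
  obtain ⟨v, hvT, hvP, hvn, -⟩ := exists_normalizer_step hT hlt'
  set H := R ⊓ normalizer (P : Set G) with hH
  have hpow : ∀ (n : ℕ), ∀ g ∈ P, ρ ^ n * g * (ρ ^ n)⁻¹ ∈ P := by
    intro n
    induction n with
    | zero => intro g hg; simpa using hg
    | succ n ih =>
      intro g hg
      rw [pow_succ', show ρ * ρ ^ n * g * (ρ * ρ ^ n)⁻¹ = ρ * (ρ ^ n * g * (ρ ^ n)⁻¹) * ρ⁻¹ by group]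
      exact hPρ _ (ih g hg)
  have hρP : ρ ∈ normalizer (P : Set G) := mem_normalizer_iff.2 fun g => ⟨hPρ g, fun hg => by
    have := hpow (orderOf ρ - 1) _ hg
    rw [show ρ ^ (orderOf ρ - 1) = ρ⁻¹ from eq_inv_of_mul_eq_one_left (by
      rw [← pow_succ, Nat.sub_add_cancel (orderOf_pos ρ), pow_orderOf_eq_one])] at this
    simpa [mul_assoc] using this⟩
  have hρH : ρ ∈ normalizer (H : Set G) := mem_normalizer_iff.2 fun x => by
    simp only [hH, mem_inf]
    refine and_congr ⟨fun h => Normal.conj_mem inferInstance x h ρ, fun h => ?_⟩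
      ⟨fun h => mul_mem (mul_mem hρP h) (inv_mem hρP), fun h => ?_⟩
    · simpa [mul_assoc] using Normal.conj_mem inferInstance _ h ρ⁻¹
    · simpa [mul_assoc] using mul_mem (mul_mem (inv_mem hρP) h) hρP
  obtain ⟨S, hS⟩ := exists_fixed_sylow (t := t) H hρ hρH fun g hg => hcen g hg.1
  have hPH : P ≤ H := le_inf hPR le_normalizer
  haveI : (P.subgroupOf H).Normal := (normal_subgroupOf_iff_le_normalizer hPH).2 inf_le_right
  have hPS : P.subgroupOf H ≤ (S : Subgroup H) :=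
    le_sup_right.trans (S.3 (S.2.to_sup_of_normal_right (K := P.subgroupOf H)
      (hP.comap_of_injective H.subtype Subtype.coe_injective)) le_sup_left).le
  have hQ : (S : Subgroup H).map H.subtype ∈
      {P : Subgroup G | P ≤ R ∧ y ∈ P ∧ IsPGroup t P ∧ ∀ g ∈ P, ρ * g * ρ⁻¹ ∈ P} := by
    refine ⟨(map_subtype_le _).trans inf_le_left, ⟨⟨y, hPH hyP⟩, hPS hyP, rfl⟩, S.2.map _, ?_⟩
    rintro _ ⟨g, hg, rfl⟩
    obtain ⟨g', hg', he⟩ := hS g hg
    exact ⟨g', hg', he⟩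
  have hle : P ≤ (S : Subgroup H).map H.subtype := fun g hg => ⟨⟨g, hPH hg⟩, hPS hg, rfl⟩
  have heq : (S : Subgroup H).map H.subtype ≤ P := hmax hQ hle
  set U := zpowers v ⊔ P with hU
  have hvU : zpowers v ⊔ P ≤ H := sup_le (zpowers_le.2 ⟨hTR hvT, hvn⟩) hPH
  have hUp : IsPGroup t U :=
    IsPGroup.to_sup_of_normal_right' (hT.to_le (zpowers_le.2 hvT)) hP (zpowers_le.2 hvn)
  have hc1 : Nat.card U ≤ Nat.card P := by
    obtain ⟨i, hi, hUc⟩ := le_of_isPGroup hUp hvU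
    refine le_trans ?_ (Nat.le_of_dvd Nat.card_pos (card_dvd_of_le heq))
    rw [hUc, card_map_of_injective H.subtype_injective, S.card_eq_multiplicity]
    exact Nat.pow_le_pow_right (Fact.out : t.Prime).pos hi
  exact hvP (((eq_of_le_of_card_ge (le_sup_right : P ≤ U) hc1).ge) (mem_sup_left (mem_zpowers v)))

end CfsgLib.ThreeClass
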