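import Cfsg.Agent.Lib.ThreeClass.Local

/-!
# Abelian centralisers of two orders, both with two primes

The centralisers of each order form one conjugacy class.  Counting the noncentral elements shows
that one of them is its own normaliser; Burnside's transfer theorem and Itô's two class sizes
lemma then give solvability.
-/

set_option autoImplicit false
set_option linter.style.haveILetI false
set_option linter.unusedSectionVars false

namespace CfsgLib.ThreeClass

open Subgroup CfsgLib.ClassSize.Three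
open scoped commutatorElement

variable {G : Type*} [Group G] [Finite G]

theorem card_eq_factorization {q t : ℕ} [Fact t.Prime] (hB : Blk G q) (htq : t ≠ q) {x y : G}
    (hx : PEl q x) (hy : PEl q y) (h : Nat.card (Cz x) = Nat.card (Cz y)) :
    Nat.card (tp t x) = Nat.card (tp t y) := by
  rw [hB.card_tp htq hx, hB.card_tp htq hy, h]

section

variable (hA : ∀ x y : G, x ∉ center G → y ∉ center G → Commute x y → Cz x = Cz y)

include hA

theorem blk_of_abelian (q : ℕ) : Blk G q := fun u v hu hv h => hA u v hu.1 hv.1 h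

theorem mem_tp' {t : ℕ} {x g : G} (hx : x ∉ center G) :
    g ∈ tp t x ↔ Tel t g ∧ Commute g x := by
  refine ⟨fun h => ⟨h.2.1, h.2.2⟩, fun ⟨hg, hc⟩ => ⟨?_, hg, hc⟩⟩
  by_cases hgZ : g ∈ center G
  · exact fun y _ => mem_Cz.2 (mem_center_iff.1 hgZ y)
  · exact (hA g x hgZ hx hc).ge

theorem Cz_of_mem' {t : ℕ} {x a : G} (hx : x ∉ center G) (ha : a ∈ tp t x) (haZ : a ∉ center G) :
    Cz a = Cz x := hA a x haZ hx ha.2.2

theorem Cz_abelian {x a b : G} (hx : x ∉ center G) (ha : a ∈ Cz x) (hb : b ∈ Cz x) : Commute a b := by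
  by_cases hbZ : b ∈ center G
  · exact mem_center_iff.1 hbZ a
  · rw [← mem_Cz, hA b x hbZ hx (mem_Cz.1 hb)]; exact ha

theorem tp_eq' {t : ℕ} {x y : G} (hx : x ∉ center G) (hy : y ∉ center G) (h : Cz x = Cz y) :
    tp t x = tp t y := by
  ext g
  rw [mem_tp' hA hx, mem_tp' hA hy, ← mem_Cz, h, mem_Cz]

theorem card_tp' {t : ℕ} [Fact t.Prime] {x : G} (hx : x ∉ center G) :
    Nat.card (tp t x) = t ^ (Nat.card (Cz x)).factorization t := by
  obtain ⟨T, hT, hTt, hTP, hTc⟩ := exists_full t (Cz x) (isPGroup_tp t x) (tp_le t x)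
  rw [← hTc, le_antisymm (fun g hg => (mem_tp' hA hx).2 ⟨tel_of_mem hTP hg, mem_Cz.1 (hT hg)⟩) hTt]

theorem le_center_iff {t : ℕ} [Fact t.Prime] {x : G} (hx : x ∉ center G) :
    tp t x ≤ center G ↔ Nat.card (tp t x) = Nat.card (tp t (1 : G)) := by
  constructor
  · intro h
    exact congrArg (fun K : Subgroup G => Nat.card K)
      (le_antisymm (fun g hg => mem_tp_one.2 ⟨h hg, hg.2.1⟩) (tp_one_le t x))
  · intro h g hg
    rw [← eq_of_le_of_card_ge (tp_one_le t x) h.le] at hg
    exact (mem_tp_one.1 hg).1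

theorem le_center_congr {t : ℕ} [Fact t.Prime] {x y : G} (hx : x ∉ center G) (hy : y ∉ center G)
    (h : Nat.card (Cz x) = Nat.card (Cz y)) : tp t x ≤ center G ↔ tp t y ≤ center G := by
  rw [le_center_iff hA hx, le_center_iff hA hy, card_tp' hA hx, card_tp' hA hy, h]

theorem conj_notMem {g x : G} (hx : x ∉ center G) : g * x * g⁻¹ ∉ center G := fun h => hx (by
  have := Normal.conj_mem inferInstance _ h g⁻¹
  simpa [mul_assoc] using this)

/-- If a conjugate of a noncentral `t`-element of `Cz x` commutes with `y`, the centralisers are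
conjugate. -/
theorem conj_class {t : ℕ} {x y g a : G} (hx : x ∉ center G) (hy : y ∉ center G) (ha : a ∈ tp t x)
    (haZ : a ∉ center G) (hga : g * a * g⁻¹ ∈ tp t y) : Cz (g * x * g⁻¹) = Cz y := by
  rw [← Cz_of_mem' hA hy hga (conj_notMem hA haZ), Cz_conj, Cz_conj, Cz_of_mem' hA hx ha haZ]

/-- Two noncentral blocks in a Sylow subgroup, each of index `t`, are small. -/
theorem card_le_of_ne {t : ℕ} [Fact t.Prime] {x y : G} (hx : x ∉ center G) (hy : y ∉ center G)
    {X : Subgroup G} (hxX : tp t x ≤ X) (hyX : tp t y ≤ X)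
    (hX : Nat.card X = t * Nat.card (tp t y)) (hne : Cz x ≠ Cz y) :
    Nat.card (tp t x) ≤ t * Nat.card (tp t (1 : G)) := by
  have hinf : tp t y ⊓ tp t x ≤ tp t (1 : G) := by
    intro g hg
    by_cases hgZ : g ∈ center G
    · exact mem_tp_one.2 ⟨hgZ, hg.1.2.1⟩
    · exact absurd ((Cz_of_mem' hA hx hg.2 hgZ).symm.trans (Cz_of_mem' hA hy hg.1 hgZ)) hne
  have h1 : Nat.card (tp t y ⊓ tp t x : Subgroup G) * (tp t y).relIndex (tp t x) = Nat.card (tp t x) := by
    rw [← inf_relIndex_right (tp t y) (tp t x), Subgroup.relIndex,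
      ← Nat.card_congr (subgroupOfEquivOfLe (inf_le_right : tp t y ⊓ tp t x ≤ tp t x)).toEquiv,
      card_mul_index]
  have h2 : (tp t y).relIndex X = t := by
    have := (tp t y).card_mul_index
    have h3 : Nat.card (tp t y) * (tp t y).relIndex X = Nat.card X := by
      rw [Subgroup.relIndex, ← Nat.card_congr (subgroupOfEquivOfLe hyX).toEquiv, card_mul_index]
    rw [hX, mul_comm t] at h3
    exact Nat.eq_of_mul_eq_mul_left Nat.card_pos h3
  have h4 : (tp t y).relIndex (tp t x) ≤ t := by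
    have := relIndex_le_of_le_right (H := tp t y) hxX
      (by rw [h2]; exact (Fact.out : t.Prime).ne_zero)
    rwa [h2] at this
  rw [← h1, mul_comm t]
  exact Nat.mul_le_mul (Nat.le_of_dvd Nat.card_pos (card_dvd_of_le hinf)) h4

/-- A block with more than `t` cosets of the centre is normal in a Sylow subgroup of index `t`. -/
theorem big_sylow {t r : ℕ} [Fact t.Prime] [Fact r.Prime] (hrt : r ≠ t) {x : G} (hx : x ∉ center G)
    (hr : ¬ tp r x ≤ center G) (hbig : t * Nat.card (tp t (1 : G)) < Nat.card (tp t x))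
    (hns : ∀ T : Sylow t G, tp t x ≠ (T : Subgroup G)) {T : Sylow t G}
    (hT : tp t x ≤ (T : Subgroup G)) :
    (T : Subgroup G) ≤ normalizer (Cz x : Set G) ∧ Nat.card T = t * Nat.card (tp t x) := by
  obtain ⟨q, hq1, hq2⟩ := Nat.exists_infinite_primes (t + r + 1)
  have hB := blk_of_abelian hA q
  obtain ⟨δ, hδ, hδZ⟩ := SetLike.not_le_iff_exists.1 hr
  have hxnc : ¬ tp t x ≤ center G := fun h => by
    rw [le_center_iff hA hx] at h
    have := (Fact.out : t.Prime).two_le
    have := Nat.card_pos (α := tp t (1 : G))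
    nlinarith
  obtain ⟨u, hu, huZ⟩ := SetLike.not_le_iff_exists.1 hxnc
  have hup : PEl q u := ⟨huZ, t, Fact.out, by omega, hu.2.1⟩
  have hCu := Cz_of_mem' hA hx hu huZ
  set V := tp t x with hV
  have heu : tp t u = V := tp_eq' hA huZ hx hCu
  set X := (T : Subgroup G) ⊓ normalizer (Cz x : Set G) with hX
  have hVX : V ≤ X := le_inf hT ((tp_le t x).trans le_normalizer)
  have hnorm : ∀ g : G, g ∈ normalizer (V : Set G) → g ∈ normalizer (Cz x : Set G) := fun g hg => by
    rw [← hCu]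
    refine hB.mem_normalizer Fact.out (by omega) hup (heu.symm ▸ hu) huZ (heu.symm ▸ ?_)
    exact (mem_normalizer_iff.1 hg u).1 hu
  have hlt : V < (T : Subgroup G) := lt_of_le_of_ne hT (hns T)
  obtain ⟨v, hv, hvn, hvN, -⟩ := exists_normalizer_step T.2 hlt
  have hne : V ≠ X := fun e => hvn (e.symm ▸ ⟨hv, hnorm v hvN⟩)
  have hXc : Nat.card X = t * Nat.card V := by
    have := card_le_mul hB (t := t) (by omega) (r := r) (by omega) hrt hup
      ((tp_eq' hA huZ hx hCu).symm ▸ hδ) hδZ (heu.symm ▸ hxnc) (T.2.to_le inf_le_left)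
      (hCu ▸ inf_le_right) (heu.symm ▸ hVX) (heu.symm ▸ hne)
    rwa [heu] at this
  by_cases hTX : X = (T : Subgroup G)
  · exact ⟨hTX ▸ inf_le_right, hTX ▸ hXc⟩
  exfalso
  obtain ⟨g, hg, hgX, hgN, -⟩ := exists_normalizer_step T.2 (lt_of_le_of_ne inf_le_left hTX)
  have hgx := conj_notMem hA (g := g) hx
  have hW : tp t (g * x * g⁻¹) ≤ X := by
    intro a ha
    rw [mem_tp' hA hgx] at ha
    have h1 : g⁻¹ * a * g ∈ V := (mem_tp' hA hx).2 ⟨by simpa using ha.1.conj g⁻¹, by
      have := ha.2.map (MulAut.conj g⁻¹).toMonoidHom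
      simpa [mul_assoc] using this⟩
    have := (mem_normalizer_iff.1 hgN _).1 (hVX h1)
    rwa [show g * (g⁻¹ * a * g) * g⁻¹ = a by group] at this
  have hne' : Cz (g * x * g⁻¹) ≠ Cz x := fun e => hgX ⟨hg, normalizer_of_Cz e⟩
  have hle := card_le_of_ne hA hgx hx hW hVX hXc hne'
  rw [card_tp' hA hgx, card_Cz_conj, ← card_tp' hA hx] at hle
  exact absurd hle (not_le.2 hbig)

/-- Centralisers of equal order are conjugate. -/
theorem exists_conj (hmulti : ∀ x : G, x ∉ center G → ∀ p : ℕ,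
      ∃ r : ℕ, r.Prime ∧ r ≠ p ∧ ¬ tp r x ≤ center G)
    {x y : G} (hx : x ∉ center G) (hy : y ∉ center G) (h : Nat.card (Cz x) = Nat.card (Cz y)) :
    ∃ g : G, Cz (g * x * g⁻¹) = Cz y := by
  by_cases hsyl : ∃ (t : ℕ) (_ : Fact t.Prime), ¬ tp t x ≤ center G ∧
      ∃ T : Sylow t G, tp t x = (T : Subgroup G)
  · obtain ⟨t, ht, hnc, T, hT⟩ := hsyl
    obtain ⟨S, hS⟩ := (isPGroup_tp t y).exists_le_sylow
    have hSy : tp t y = (S : Subgroup G) := eq_of_le_of_card_ge hS (by
      rw [card_tp' hA hy, ← h, ← card_tp' hA hx, hT]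
      exact (S.card_eq_multiplicity.trans T.card_eq_multiplicity.symm).le)
    obtain ⟨g, hg⟩ := MulAction.exists_smul_eq G T S
    obtain ⟨a, ha, haZ⟩ := SetLike.not_le_iff_exists.1 hnc
    refine ⟨g, conj_class hA hx hy ha haZ ?_⟩
    rw [hSy, ← hg, Sylow.coe_subgroup_smul]
    exact smul_mem_pointwise_smul a (MulAut.conj g) _ (hT ▸ ha)
  by_cases hbig : ∃ (t : ℕ) (_ : Fact t.Prime), t * Nat.card (tp t (1 : G)) < Nat.card (tp t x)
  · obtain ⟨t, ht, hbig⟩ := hbig
    obtain ⟨r, hr, hrt, hrx⟩ := hmulti x hx t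
    haveI := Fact.mk hr
    have hnc : ¬ tp t x ≤ center G := fun hc => by
      rw [le_center_iff hA hx] at hc
      have := ht.out.two_le
      have := Nat.card_pos (α := tp t (1 : G))
      nlinarith
    have hns : ∀ z : G, z ∉ center G → Nat.card (Cz x) = Nat.card (Cz z) →
        ∀ T : Sylow t G, tp t z ≠ (T : Subgroup G) := by
      intro z hz hc T e
      obtain ⟨S, hS⟩ := (isPGroup_tp t x).exists_le_sylow
      refine hsyl ⟨t, ht, hnc, S, eq_of_le_of_card_ge hS ?_⟩
      rw [card_tp' hA hx, hc, ← card_tp' hA hz, e]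
      exact (S.card_eq_multiplicity.trans T.card_eq_multiplicity.symm).le
    obtain ⟨T, hT⟩ := (isPGroup_tp t x).exists_le_sylow
    obtain ⟨S, hS⟩ := (isPGroup_tp t y).exists_le_sylow
    obtain ⟨g, hg⟩ := MulAction.exists_smul_eq G S T
    have hgy := conj_notMem hA (g := g) hy
    have hW : tp t (g * y * g⁻¹) ≤ (T : Subgroup G) := by
      intro a ha
      rw [mem_tp' hA hgy] at ha
      have h1 : g⁻¹ * a * g ∈ tp t y := (mem_tp' hA hy).2 ⟨by simpa using ha.1.conj g⁻¹, by
        have := ha.2.map (MulAut.conj g⁻¹).toMonoidHom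
        simpa [mul_assoc] using this⟩
      rw [← hg, Sylow.coe_subgroup_smul, mem_pointwise_smul_iff_inv_smul_mem]
      have h2 := hS h1
      simpa [MulAut.conj_symm_apply, mul_assoc] using h2
    have h1 := big_sylow hA hrt hx hrx hbig (hns x hx rfl) hT
    have hcard : Nat.card (Cz x) = Nat.card (Cz (g * y * g⁻¹)) := by rw [card_Cz_conj, h]
    by_contra hno
    have hne : Cz (g * y * g⁻¹) ≠ Cz x := fun e => hno ⟨g⁻¹, by
      have e2 := congrArg (Subgroup.map (MulAut.conj g⁻¹).toMonoidHom) e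
      rw [← Cz_conj, ← Cz_conj] at e2
      rw [show g⁻¹ * (g * y * g⁻¹) * g⁻¹⁻¹ = y by group] at e2
      exact e2.symm⟩
    have hle := card_le_of_ne hA hgy hx hW hT h1.2 hne
    rw [card_tp' hA hgy, ← hcard, ← card_tp' hA hx] at hle
    exact absurd hle (not_le.2 hbig)
  -- all blocks are small: impossible
  exfalso
  push Not at hsyl hbig
  obtain ⟨t₀, ht₀, -, hnc₀⟩ := hmulti x hx 0
  obtain ⟨s₀, hs₀, hne₀, hncs₀⟩ := hmulti x hx t₀
  obtain ⟨t, s, hts, ht, hs, hnct, hncs⟩ : ∃ t s : ℕ, t < s ∧ t.Prime ∧ s.Prime ∧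
      ¬ tp t x ≤ center G ∧ ¬ tp s x ≤ center G := by
    rcases Nat.lt_or_lt_of_ne hne₀ with h1 | h1
    · exact ⟨s₀, t₀, h1, hs₀, ht₀, hncs₀, hnc₀⟩
    · exact ⟨t₀, s₀, h1, ht₀, hs₀, hnc₀, hncs₀⟩
  haveI := Fact.mk ht
  haveI := Fact.mk hs
  obtain ⟨z, hz, hzZ, hzt, -⟩ := exists_fix (isPGroup_tp t x) le_rfl le_normalizer hnct
  obtain ⟨q, hq1, hq2⟩ := Nat.exists_infinite_primes (t + s + 1)
  have hB := blk_of_abelian hA q
  have hzp : PEl q z := ⟨hzZ, t, ht, by omega, hz.2.1⟩
  have hCz := Cz_of_mem' hA hx hz hzZ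
  have hsmall : ∀ w ∈ tp t x, ∃ j : ℕ, w * (z ^ j)⁻¹ ∈ center G := by
    have hzm : z ∈ tp t x := hz
    let f : Fin t × tp t (1 : G) → tp t x := fun a =>
      ⟨(a.2 : G) * z ^ (a.1 : ℕ), mul_mem (tp_one_le t x a.2.2) (pow_mem hzm _)⟩
    have hinj : Function.Injective f := by
      rintro ⟨⟨i, hi⟩, a, ha⟩ ⟨⟨j, hj⟩, b, hb⟩ h'
      replace h' : a * z ^ i = b * z ^ j := congrArg Subtype.val h'
      have hX : orderOf (QuotientGroup.mk' (center G) z) = t := by
        refine orderOf_eq_prime ?_ fun h1 => hzZ ((QuotientGroup.eq_one_iff _).1 h1)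
        rw [← map_pow]; exact (QuotientGroup.eq_one_iff _).2 hzt
      have h1 := congrArg (QuotientGroup.mk' (center G)) h'
      rw [map_mul, map_mul, map_pow, map_pow, show QuotientGroup.mk' (center G) a = 1 from
        (QuotientGroup.eq_one_iff _).2 (mem_tp_one.1 ha).1, show QuotientGroup.mk' (center G) b = 1 from
        (QuotientGroup.eq_one_iff _).2 (mem_tp_one.1 hb).1, one_mul, one_mul, pow_eq_pow_iff_modEq,
        hX, Nat.ModEq, Nat.mod_eq_of_lt hi, Nat.mod_eq_of_lt hj] at h1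
      subst h1
      simp [mul_right_cancel h']
    have hc : Nat.card (tp t x) ≤ Nat.card (Fin t × tp t (1 : G)) := by
      simpa [Nat.card_prod] using hbig t inferInstance
    have hb := (Nat.bijective_iff_injective_and_card f).2
      ⟨hinj, le_antisymm (Nat.card_le_card_of_injective f hinj) hc⟩
    intro w hw
    obtain ⟨⟨i, a, ha⟩, he⟩ := hb.2 ⟨w, hw⟩
    refine ⟨(i : ℕ), ?_⟩
    rw [← show a * z ^ (i : ℕ) = w from congrArg Subtype.val he, mul_inv_cancel_right]
    exact (mem_tp_one.1 ha).1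
  obtain ⟨S, hS⟩ := (isPGroup_tp s x).exists_le_sylow
  obtain ⟨σ, hσS, hσ, hσn, -⟩ := exists_normalizer_step S.2
    (lt_of_le_of_ne hS (hsyl s inferInstance hncs S))
  obtain ⟨a, ha, haZ⟩ := SetLike.not_le_iff_exists.1 hncs
  have hap : PEl q a := ⟨haZ, s, hs, by omega, ha.2.1⟩
  have hCa := Cz_of_mem' hA hx ha haZ
  have hσz : σ ∈ normalizer (Cz z : Set G) := by
    rw [hCz, ← hCa]
    have e := tp_eq' hA (t := s) haZ hx hCa
    exact hB.mem_normalizer hs (by omega) hap (e.symm ▸ ha) haZ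
      (e.symm ▸ (mem_normalizer_iff.1 hσn a).1 ha)
  have hzz : z ∈ tp t z := (mem_tp' hA hzZ).2 ⟨hz.2.1, Commute.refl z⟩
  have hfix : Fix σ z := fix_of_cyclic hs ((Nat.Prime.coprime_iff_not_dvd hs).2 fun hd => by
      have := Nat.le_of_dvd (by have := ht.two_le; omega) hd
      omega) (tel_of_mem S.2 hσS) hzZ hzt
    (hsmall _ (tp_eq' hA hzZ hx hCz ▸ hB.conj_mem_tp ht (by omega) hzp hσz hzz))
  have := mem_tp_of_fix hB (t := s) (by omega) (r := t) (by omega) hts.ne hzp hzz hzZ
    (tel_of_mem S.2 hσS) hfix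
  exact hσ (tp_eq' hA hzZ hx hCz ▸ this)

/-- The conjugates of one centraliser contain few noncentral elements. -/
theorem ncard_class_le (x : G) (hx : x ∉ center G) :
    Nat.card {h : G // h ∉ center G ∧ ∃ g : G, Cz h = Cz (g * x * g⁻¹)} ≤
      (normalizer (Cz x : Set G)).index * (Nat.card (Cz x) - Nat.card (center G)) := by
  classical
  set N := normalizer (Cz x : Set G) with hN
  let D := {d : G // d ∈ (Cz x : Set G) \ (center G : Set G)}
  have hD : Nat.card D = Nat.card (Cz x) - Nat.card (center G) := by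
    show Nat.card ↥((Cz x : Set G) \ (center G : Set G)) = _
    rw [Nat.card_coe_set_eq, Set.ncard_sdiff (SetLike.coe_subset_coe.2 (center_le_Cz x)),
      ← Nat.card_coe_set_eq, ← Nat.card_coe_set_eq]
    rfl
  rw [← hD, index_eq_card, ← Nat.card_prod]
  let f : (G ⧸ N) × D → {h : G // h ∉ center G ∧ ∃ g : G, Cz h = Cz (g * x * g⁻¹)} := fun p =>
    ⟨p.1.out * p.2.1 * p.1.out⁻¹, conj_notMem hA p.2.2.2, p.1.out, by
      rw [Cz_conj, Cz_conj, hA p.2.1 x p.2.2.2 hx (mem_Cz.1 p.2.2.1)]⟩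
  refine Nat.card_le_card_of_surjective f ?_
  rintro ⟨h, hZ, g, hg⟩
  set c := ((g : G ⧸ N)).out with hc
  have hn : g⁻¹ * c ∈ N := QuotientGroup.eq.1 (QuotientGroup.out_eq' (g : G ⧸ N)).symm
  have hCc : Cz (c * x * c⁻¹) = Cz (g * x * g⁻¹) := by
    rw [show c * x * c⁻¹ = g * ((g⁻¹ * c) * x * (g⁻¹ * c)⁻¹) * g⁻¹ by group, Cz_conj,
      Cz_conj_of_mem hn, ← Cz_conj]
  have hmem : c⁻¹ * h * c ∈ Cz x := by
    rw [← conj_mem_Cz_iff (g := c), hCc, ← hg, show c * (c⁻¹ * h * c) * c⁻¹ = h by group]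
    exact mem_Cz_self h
  refine ⟨⟨(g : G ⧸ N), ⟨c⁻¹ * h * c, hmem, fun h' => hZ ?_⟩⟩, Subtype.ext ?_⟩
  · have := Normal.conj_mem inferInstance _ h' c
    rwa [show c * (c⁻¹ * h * c) * c⁻¹ = h by group] at this
  · show c * (c⁻¹ * h * c) * c⁻¹ = h
    group

/-- A self-normalising centraliser with two primes gives solvability. -/
theorem isSolvable_of_selfnorm
    (hmulti : ∀ x : G, x ∉ center G → ∀ p : ℕ, ∃ r : ℕ, r.Prime ∧ r ≠ p ∧ ¬ tp r x ≤ center G)
    {a b : ℕ} (hab : a ≠ b) (hcard : ∀ h : G, h ∉ center G → Nat.card (Cz h) = a ∨ Nat.card (Cz h) = b)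
    {x : G} (hx : x ∉ center G) (hxa : Nat.card (Cz x) = a)
    (hN : normalizer (Cz x : Set G) ≤ Cz x) : Group.IsSolvable G := by
  classical
  -- the primes of `Cz x`
  set π : Set ℕ := {r | r.Prime ∧ ¬ tp r x ≤ center G} with hπ
  have hker : ∀ r ∈ π, ∃ M : Subgroup G, M.Normal ∧ commutator G ≤ M ∧ ¬ r ∣ Nat.card M ∧
      ∀ g : G, (orderOf g).Coprime r → g ∈ M := by
    rintro r ⟨hr, hrx⟩
    haveI := Fact.mk hr
    obtain ⟨S, hS⟩ := (isPGroup_tp r x).exists_le_sylow
    obtain ⟨c, hc, hcZ⟩ := SetLike.not_le_iff_exists.1 hrx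
    have hnorm : ∀ g : G, g ∈ normalizer (tp r x : Set G) → g ∈ Cz x := fun g hg => hN (by
      refine normalizer_of_Cz ?_
      have := conj_class hA hx hx hc hcZ ((mem_normalizer_iff.1 hg c).1 hc)
      exact this)
    have hSx : tp r x = (S : Subgroup G) := by
      by_contra e
      obtain ⟨v, hv, hvn, hvN, -⟩ := exists_normalizer_step S.2 (lt_of_le_of_ne hS e)
      exact hvn ((mem_tp' hA hx).2 ⟨tel_of_mem S.2 hv, mem_Cz.1 (hnorm v hvN)⟩)
    have hP : normalizer ((S : Subgroup G) : Set G) ≤ centralizer ((S : Subgroup G) : Set G) := by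
      rw [← hSx]
      intro g hg
      rw [mem_centralizer_iff]
      intro s hs
      exact (Cz_abelian hA hx (tp_le r x hs) (hnorm g hg)).eq
    refine ⟨(MonoidHom.transferSylow S hP).ker, inferInstance, ?_,
      MonoidHom.not_dvd_card_ker_transferSylow S hP, fun g hg => ?_⟩
    · rw [commutator_eq_closure, closure_le]
      rintro _ ⟨u, v, rfl⟩
      show MonoidHom.transferSylow S hP ⁅u, v⁆ = 1
      rw [map_commutatorElement, commutatorElement_eq_one_iff_commute]
      exact Subtype.ext ((mem_centralizer_iff.1 (hP (le_normalizer (MonoidHom.transferSylow S hP v).2)))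
        _ (MonoidHom.transferSylow S hP u).2).symm.symm
    · rw [MonoidHom.mem_ker, ← orderOf_eq_one_iff]
      obtain ⟨k, hk⟩ := IsPGroup.exists_orderOf_eq_pow S.2 (MonoidHom.transferSylow S hP g)
      exact Nat.eq_one_of_dvd_coprimes (hg.pow_right k) (orderOf_map_dvd _ g) (dvd_of_eq hk)
  choose M hMn hMc hMd hMmem using hker
  set K : Subgroup G := ⨅ r : π, M r r.2 with hK
  haveI hKn : K.Normal := normal_iInf_normal fun r => hMn r r.2
  have hKc : commutator G ≤ K := le_iInf fun r => hMc r r.2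
  have hKd : ∀ r ∈ π, ¬ r ∣ Nat.card K := fun r hr hd =>
    hMd r hr (hd.trans (card_dvd_of_le (iInf_le (fun r : π => M r r.2) ⟨r, hr⟩)))
  have hKmem : ∀ g : G, (∀ r ∈ π, (orderOf g).Coprime r) → g ∈ K := fun g hg =>
    mem_iInf.2 fun r => hMmem r r.2 g (hg r r.2)
  -- noncentral elements of `K` have centralisers of the second order
  have htype : ∀ u ∈ K, u ∉ center G → Nat.card (Cz u) = b := by
    intro u hu huZ
    refine (hcard u huZ).resolve_left fun hua => ?_
    obtain ⟨r, hr, c, hc, hcZ, hct⟩ := exists_primary huZ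
    haveI := Fact.mk hr
    have hcu : c ∈ tp r u := (mem_tp' hA huZ).2 ⟨hct, by
      obtain ⟨i, rfl⟩ := hc; exact (Commute.self_zpow u i).symm⟩
    have hrπ : r ∈ π := ⟨hr, fun h => hcZ (((le_center_congr hA hx huZ (hxa.trans hua.symm)).1 h) hcu)⟩
    refine hKd r hrπ ?_
    obtain ⟨k, hk⟩ := hct.exists_orderOf
    have hk0 : k ≠ 0 := fun h => hcZ (by
      rw [h, pow_zero, orderOf_eq_one_iff] at hk; exact hk ▸ one_mem _)
    exact ((dvd_pow_self r hk0).trans hk.symm.dvd).trans
      (K.orderOf_dvd_natCard (zpowers_le.2 hu hc))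
  -- the orders of the centralisers in `K`
  have hex : ∀ u ∈ K, u ∉ center G → ∀ r ∈ π, tp r u ≤ center G := by
    rintro u hu huZ r ⟨hr, hrx⟩
    haveI := Fact.mk hr
    by_contra h
    obtain ⟨S, hS⟩ := (isPGroup_tp r x).exists_le_sylow
    obtain ⟨c, hc, hcZ⟩ := SetLike.not_le_iff_exists.1 h
    obtain ⟨T, hT⟩ := (isPGroup_tp r u).exists_le_sylow
    obtain ⟨g, hg⟩ := MulAction.exists_smul_eq G T S
    have hSx : tp r x = (S : Subgroup G) := by
      by_contra e
      obtain ⟨v, hv, hvn, hvN, -⟩ := exists_normalizer_step S.2 (lt_of_le_of_ne hS e)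
      obtain ⟨c', hc', hc'Z⟩ := SetLike.not_le_iff_exists.1 hrx
      exact hvn ((mem_tp' hA hx).2 ⟨tel_of_mem S.2 hv, mem_Cz.1 (hN (normalizer_of_Cz
        (conj_class hA hx hx hc' hc'Z ((mem_normalizer_iff.1 hvN c').1 hc'))))⟩)
    have hgc : g * c * g⁻¹ ∈ tp r x := by
      rw [hSx, ← hg, Sylow.coe_subgroup_smul]
      exact smul_mem_pointwise_smul c (MulAut.conj g) _ (hT hc)
    have := congrArg (fun H : Subgroup G => Nat.card H) (conj_class hA huZ hx hc hcZ hgc)
    rw [card_Cz_conj, htype u hu huZ, hxa] at this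
    exact hab this.symm
  have hconst : ∀ u ∈ K, ∀ v ∈ K, u ∉ center G → v ∉ center G →
      Nat.card (Cz u ⊓ K : Subgroup G) = Nat.card (Cz v ⊓ K : Subgroup G) := by
    have hfac : ∀ u ∈ K, u ∉ center G → ∀ s : ℕ, s.Prime →
        (Nat.card (Cz u ⊓ K : Subgroup G)).factorization s = if s ∈ π then 0 else b.factorization s := by
      intro u hu huZ s hs
      haveI := Fact.mk hs
      split_ifs with hsπ
      · exact Nat.factorization_eq_zero_of_not_dvd fun hd =>
          hKd s hsπ (hd.trans (card_dvd_of_le inf_le_right))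
      · have hle : tp s u ≤ Cz u ⊓ K := le_inf (tp_le s u) fun g hg => hKmem g fun r hr => by
          obtain ⟨k, hk⟩ := hg.2.1.exists_orderOf
          rw [hk]
          exact Nat.Coprime.pow_left k ((Nat.coprime_primes hs hr.1).2 fun e => hsπ (e ▸ hr))
        refine le_antisymm ?_ ((hs.pow_dvd_iff_le_factorization Nat.card_pos.ne').1 ?_)
        · rw [← htype u hu huZ]
          exact (Nat.factorization_le_iff_dvd Nat.card_pos.ne' Nat.card_pos.ne').2
            (card_dvd_of_le inf_le_left) s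
        · rw [← htype u hu huZ, ← card_tp' hA huZ]
          exact card_dvd_of_le hle
    intro u hu v hv huZ hvZ
    refine Nat.eq_of_factorization_eq Nat.card_pos.ne' Nat.card_pos.ne' fun s => ?_
    by_cases hs : s.Prime
    · rw [hfac u hu huZ s hs, hfac v hv hvZ s hs]
    · rw [Nat.factorization_eq_zero_of_not_prime _ hs, Nat.factorization_eq_zero_of_not_prime _ hs]
  have hKsol : Group.IsSolvable K := by
    by_cases hab' : ∀ u : K, u ∈ center K
    · exact Group.isSolvable_of_comm fun u v => (mem_center_iff.1 (hab' v) u)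
    push Not at hab'
    obtain ⟨u₀, hu₀⟩ := hab'
    have hidx : ∀ u : K, u ∉ center K → (centralizer ({u} : Set K)).index =
        (centralizer ({u₀} : Set K)).index := by
      have hc : ∀ u : K, (centralizer ({u} : Set K)).index * Nat.card (Cz (u : G) ⊓ K : Subgroup G) =
          Nat.card K := by
        intro u
        have e : centralizer ({u} : Set K) = (Cz (u : G) ⊓ K).subgroupOf K := by
          ext g
          simp only [mem_subgroupOf, mem_inf, SetLike.coe_mem, and_true, mem_Cz,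
            mem_centralizer_singleton_iff]
          exact ⟨fun h => congrArg Subtype.val h, fun h => Subtype.ext h.eq⟩
        rw [e, ← Nat.card_congr (subgroupOfEquivOfLe (inf_le_right : Cz (u : G) ⊓ K ≤ K)).toEquiv,
          mul_comm, card_mul_index]
      intro u hu
      have hne : ∀ w : K, w ∉ center K → (w : G) ∉ center G := fun w hw h =>
        hw (mem_center_iff.2 fun g => Subtype.ext (mem_center_iff.1 h g))
      have h1 := hc u
      rw [hconst u u.2 u₀ u₀.2 (hne u hu) (hne u₀ hu₀), ← hc u₀] at h1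
      exact Nat.eq_of_mul_eq_mul_right Nat.card_pos h1
    obtain ⟨p, hp, hiso⟩ := CfsgLib.FGStruct.ItoTwoSizes.exists_isolated hidx ⟨u₀, hu₀⟩
    refine isSolvable_of_two p p hp hp fun r g hr hrp _ hg => hiso g ?_
    haveI := Fact.mk hr
    obtain ⟨k, hk⟩ := hg.exists_orderOf
    rw [hk]
    exact Nat.Coprime.pow_left k ((Nat.coprime_primes hr hp).2 hrp)
  haveI := hKsol
  haveI : Group.IsSolvable (G ⧸ K) := Group.isSolvable_of_comm fun u v => by
    obtain ⟨u, rfl⟩ := QuotientGroup.mk'_surjective K u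
    obtain ⟨v, rfl⟩ := QuotientGroup.mk'_surjective K v
    refine commutatorElement_eq_one_iff_mul_comm.1 ?_
    rw [← map_commutatorElement]
    exact (QuotientGroup.eq_one_iff _).2
      (hKc (commutator_mem_commutator (mem_top u) (mem_top v)))
  exact Group.isSolvable_of_ker_le_range K.subtype (QuotientGroup.mk' K) (by simp)

/-- Two orders of abelian centralisers, each with two primes. -/
theorem isSolvable_of_two_types
    (hmulti : ∀ x : G, x ∉ center G → ∀ p : ℕ, ∃ r : ℕ, r.Prime ∧ r ≠ p ∧ ¬ tp r x ≤ center G)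
    {a b : ℕ} (hab : a ≠ b) (hcard : ∀ h : G, h ∉ center G → Nat.card (Cz h) = a ∨ Nat.card (Cz h) = b)
    {x y : G} (hx : x ∉ center G) (hxa : Nat.card (Cz x) = a) (hy : y ∉ center G)
    (hyb : Nat.card (Cz y) = b) : Group.IsSolvable G := by
  classical
  set Na := normalizer (Cz x : Set G) with hNa
  set Nb := normalizer (Cz y : Set G) with hNb
  by_cases h1 : Na ≤ Cz x
  · exact isSolvable_of_selfnorm hA hmulti hab hcard hx hxa h1
  by_cases h2 : Nb ≤ Cz y
  · exact isSolvable_of_selfnorm hA hmulti hab.symm (fun h hh => (hcard h hh).symm) hy hyb h2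
  exfalso
  have hdouble : ∀ u : G, ¬ normalizer (Cz u : Set G) ≤ Cz u →
      2 * ((normalizer (Cz u : Set G)).index * Nat.card (Cz u)) ≤ Nat.card G := by
    intro u hu
    set N := normalizer (Cz u : Set G) with hN
    have hle : Cz u ≤ N := le_normalizer
    have hd : Nat.card (Cz u) * (Cz u).relIndex N = Nat.card N := by
      rw [Subgroup.relIndex, ← Nat.card_congr (subgroupOfEquivOfLe hle).toEquiv, card_mul_index]
    have h2 : 2 ≤ (Cz u).relIndex N := by
      have h0 : (Cz u).relIndex N ≠ 0 := index_ne_zero_of_finite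
      have h1 : (Cz u).relIndex N ≠ 1 := fun h => hu (relIndex_eq_one.1 h)
      omega
    rw [← N.card_mul_index, ← hd]
    nlinarith [Nat.mul_le_mul_left ((Nat.card (Cz u)) * N.index) h2]
  have hA' := hdouble x h1
  have hB' := hdouble y h2
  have hca := ncard_class_le hA x hx
  have hcb := ncard_class_le hA y hy
  let Sa := {h : G // h ∉ center G ∧ ∃ g : G, Cz h = Cz (g * x * g⁻¹)}
  let Sb := {h : G // h ∉ center G ∧ ∃ g : G, Cz h = Cz (g * y * g⁻¹)}
  have hcover : Nat.card G ≤ Nat.card (center G) + (Nat.card Sa + Nat.card Sb) := by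
    rw [← Nat.card_sum, ← Nat.card_sum]
    refine Nat.card_le_card_of_surjective
      (Sum.elim (fun c => (c : G)) (Sum.elim (fun c => c.1) (fun c => c.1))) fun g => ?_
    by_cases hg : g ∈ center G
    · exact ⟨Sum.inl ⟨g, hg⟩, rfl⟩
    rcases hcard g hg with h | h
    · obtain ⟨c, hc⟩ := exists_conj hA hmulti hx hg (hxa.trans h.symm)
      exact ⟨Sum.inr (Sum.inl ⟨g, hg, c, hc.symm⟩), rfl⟩
    · obtain ⟨c, hc⟩ := exists_conj hA hmulti hy hg (hyb.trans h.symm)
      exact ⟨Sum.inr (Sum.inr ⟨g, hg, c, hc.symm⟩), rfl⟩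
  have hz : 0 < Nat.card (center G) := Nat.card_pos
  have hza : Nat.card (center G) ≤ Nat.card (Cz x) :=
    Nat.le_of_dvd Nat.card_pos (card_dvd_of_le (center_le_Cz x))
  have hzb : Nat.card (center G) ≤ Nat.card (Cz y) :=
    Nat.le_of_dvd Nat.card_pos (card_dvd_of_le (center_le_Cz y))
  have hia : 0 < Na.index := Nat.pos_of_ne_zero index_ne_zero_of_finite
  have hib : 0 < Nb.index := Nat.pos_of_ne_zero index_ne_zero_of_finite
  rw [Nat.mul_sub] at hca hcb
  have ea := Nat.mul_le_mul_left Na.index hza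
  have eb := Nat.mul_le_mul_left Nb.index hzb
  have ea' := Nat.mul_le_mul_right (Nat.card (center G)) hia
  have eb' := Nat.mul_le_mul_right (Nat.card (center G)) hib
  simp only [Sa, Sb, hNa, hNb] at *
  omega

end

end CfsgLib.ThreeClass
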