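import Cfsg.Agent.Lib.ThreeClass.Constant
import Cfsg.Agent.Lib.ThreeClass.TwoTypes
import Cfsg.Agent.Lib.ClassSize.TwoRegular.Main

/-!
# Three class sizes: reduction to blocks

If two centralisers are nested, the quotient of their orders is a power of one prime `q`, and the
elements of other prime power orders are central in each other's centralisers.  Otherwise the
centralisers are abelian, or one of them has a single noncentral prime.
-/

set_option autoImplicit false
set_option linter.style.haveILetI false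
set_option linter.unusedSectionVars false

namespace CfsgLib.ThreeClass

open Subgroup CfsgLib.ClassSize.Three

variable {G : Type*} [Group G] [Finite G]

/-- Some centraliser is properly inside `Cz u`. -/
def Inside (u : G) : Prop := ∃ w : G, w ∉ center G ∧ Cz w < Cz u

theorem Cz_le_of_zpowers {x a : G} (ha : a ∈ zpowers x) : Cz x ≤ Cz a := fun g hg => by
  obtain ⟨i, rfl⟩ := ha
  exact mem_Cz.2 ((mem_Cz.1 hg).zpow_right i)

theorem eq_of_card {x y : G} (hle : Cz x ≤ Cz y) (h : Nat.card (Cz x) = Nat.card (Cz y)) :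
    Cz x = Cz y := eq_of_le_of_card_ge hle h.ge

theorem notMem_mul {r s : ℕ} [Fact r.Prime] [Fact s.Prime] (hrs : r ≠ s) {u g : G} (hu : u ∉ center G)
    (hur : Tel r u) (hgs : Tel s g) (hc : Commute u g) :
    u * g ∉ center G ∧ Cz (u * g) = Cz u ⊓ Cz g := by
  have e := Cz_mul_eq hc (orderOf_coprime hrs hur hgs)
  refine ⟨fun h => hu (mem_center_iff.2 fun y => ?_), e⟩
  have hy : y ∈ Cz u ⊓ Cz g := e ▸ mem_Cz.2 (mem_center_iff.1 h y)
  exact (mem_Cz.1 hy.1).eq

/-- Elements of prime power order commute as soon as they commute pairwise. -/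
theorem commute_of_primary {C : Subgroup G}
    (h : ∀ (r s : ℕ) (g k : G), r.Prime → s.Prime → g ∈ C → k ∈ C → Tel r g → Tel s k → Commute g k)
    {g k : G} (hg : g ∈ C) (hk : k ∈ C) : Commute g k := by
  have h1 : ∀ (y : C), (∃ p n : ℕ, p.Prime ∧ orderOf y = p ^ n) → ∀ z : C, y * z = z * y := by
    intro y hy z
    obtain ⟨p, n, hp, hn⟩ := hy
    refine (mem_centralizer_singleton_iff.1 (CfsgLib.FGStruct.Dedekind.mem_of_primePow
      (S := centralizer ({y} : Set C)) ?_ z)).symm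
    rintro w ⟨r, m, hr, hm⟩
    rw [← Subgroup.orderOf_coe] at hn hm
    refine mem_centralizer_singleton_iff.2 (Subtype.ext ?_)
    exact (h r p w y hr hp w.2 y.2 (tel_of_orderOf hm) (tel_of_orderOf hn)).eq
  have h2 : ∀ y : C, y ∈ center C := fun y => CfsgLib.FGStruct.Dedekind.mem_of_primePow
    (S := center C) (fun w hw => mem_center_iff.2 fun z => (h1 w hw z).symm) y
  exact congrArg Subtype.val (mem_center_iff.1 (h2 ⟨k, hk⟩) ⟨g, hg⟩)

/-- A prime not dividing the index quotient occurs in every centraliser. -/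
theorem exists_noncentral {t : ℕ} [Fact t.Prime] {g u : G} (hgZ : g ∉ center G) (hg : Tel t g)
    (h : (Nat.card (Cz u)).factorization t = (Nat.card (Cz g)).factorization t) :
    ∃ y ∈ Cz u, y ∉ center G ∧ Tel t y := by
  by_contra hno
  push Not at hno
  obtain ⟨Tu, hTu, hTup, hTuc⟩ := exists_full' t (Cz u)
  have hTZ : Tu ≤ center G := fun y hy => by_contra fun hyZ => hno y (hTu hy) hyZ (tel_of_mem hTup hy)
  obtain ⟨k, hk⟩ := hg.exists_orderOf
  have hQ : IsPGroup t (zpowers g ⊔ Tu : Subgroup G) := IsPGroup.to_sup_of_normal_right'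
    (CfsgLib.ClassSize.Three.isPGroup_zpowers hk) hTup fun x _ => mem_normalizer_iff.2 fun y => by
      constructor
      · intro hy; rwa [mem_center_iff.1 (hTZ hy) x, mul_inv_cancel_right]
      · intro hy
        have e := mem_center_iff.1 (hTZ hy) x⁻¹
        rw [show x⁻¹ * (x * y * x⁻¹) = y * x⁻¹ by group] at e
        rwa [← mul_right_cancel e] at hy
  obtain ⟨j, hj, hQc⟩ := le_of_isPGroup (H := Cz g) hQ
    (sup_le (zpowers_le.2 (mem_Cz_self g)) (hTZ.trans (center_le_Cz g)))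
  have he : Tu = zpowers g ⊔ Tu := eq_of_le_of_card_ge le_sup_right (by
    rw [hQc, hTuc, h]; exact Nat.pow_le_pow_right (Fact.out : t.Prime).pos hj)
  exact hgZ (hTZ (he ▸ mem_sup_left (mem_zpowers g)))

section Sizes

variable {a b : ℕ} (hab : a < b)
  (hcard : ∀ x : G, x ∉ center G → Nat.card (Cz x) = a ∨ Nat.card (Cz x) = b)

include hab hcard

theorem card_of_lt {w x : G} (hw : w ∉ center G) (hx : x ∉ center G) (hlt : Cz w < Cz x) :
    Nat.card (Cz w) = a ∧ Nat.card (Cz x) = b := by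
  have h : Nat.card (Cz w) < Nat.card (Cz x) := lt_of_le_of_ne
    (Nat.le_of_dvd Nat.card_pos (card_dvd_of_le hlt.le)) fun e => hlt.ne (eq_of_card hlt.le e)
  rcases hcard w hw with h1 | h1 <;> rcases hcard x hx with h2 | h2 <;> omega

theorem eq_of_big {x y : G} (hy : y ∉ center G) (hx : Nat.card (Cz x) = b) (hle : Cz x ≤ Cz y) :
    Cz x = Cz y := by
  have := Nat.le_of_dvd Nat.card_pos (card_dvd_of_le hle)
  refine eq_of_card hle ?_
  rcases hcard y hy with h | h <;> omega

theorem eq_of_small {x y : G} (hx : x ∉ center G) (hy : Nat.card (Cz y) = a) (hle : Cz x ≤ Cz y) :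
    Cz x = Cz y := by
  have := Nat.le_of_dvd Nat.card_pos (card_dvd_of_le hle)
  refine eq_of_card hle ?_
  rcases hcard x hx with h | h <;> omega

variable {c : ℕ} (hc : a * c = b)

include hc

theorem factorization_of_not_dvd {r : ℕ} (hr : ¬ r ∣ c) {x y : G} (hx : x ∉ center G) (hy : y ∉ center G) :
    (Nat.card (Cz x)).factorization r = (Nat.card (Cz y)).factorization r := by
  have ha : a ≠ 0 := fun h => by rw [h, zero_mul] at hc; omega
  have hc0 : c ≠ 0 := fun h => by rw [h, mul_zero] at hc; omega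
  have e : b.factorization r = a.factorization r := by
    rw [← hc, Nat.factorization_mul ha hc0, Finsupp.add_apply,
      Nat.factorization_eq_zero_of_not_dvd hr, add_zero]
  rcases hcard x hx with h1 | h1 <;> rcases hcard y hy with h2 | h2 <;> simp [h1, h2, e]

/-- The first analysis of a centraliser with another one inside. -/
theorem first_analysis {p : ℕ} [Fact p.Prime] {x : G} (hx : x ∉ center G) (hxp : Tel p x)
    (hin : Inside x) :
    (∀ r, r.Prime → r ∣ c → r = p) ∨
    ∃ q, q.Prime ∧ q ≠ p ∧ (∀ r, r.Prime → r ∣ c → r = p ∨ r = q) ∧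
      (∀ (r : ℕ) (g : G), r.Prime → r ≠ p → r ≠ q → g ∈ Cz x → Tel r g → Cz x ≤ Cz g) ∧
      ∃ g ∈ Cz x, Tel q g ∧ ¬ Cz x ≤ Cz g := by
  obtain ⟨w, hw, hlt⟩ := hin
  obtain ⟨hwa, hxb⟩ := card_of_lt hab hcard hw hx hlt
  have ha : a ≠ 0 := hwa ▸ Nat.card_pos.ne'
  have hc0 : c ≠ 0 := fun h => by rw [h, mul_zero] at hc; omega
  -- a prime all of whose elements lie in some small centraliser of `Cz x` does not divide `c`
  have hkey : ∀ (r : ℕ) (v : G), r.Prime → v ∉ center G → Nat.card (Cz v) = a →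
      ∀ T : Subgroup G, T ≤ Cz v → Nat.card T = r ^ (Nat.card (Cz x)).factorization r → ¬ r ∣ c := by
    intro r v hr hv hva T hT hTc hd
    have h1 : r ^ (Nat.card (Cz x)).factorization r ∣ a := by
      rw [← hTc, ← hva]; exact card_dvd_of_le hT
    have h2 := (hr.pow_dvd_iff_le_factorization ha).1 h1
    rw [hxb, ← hc, Nat.factorization_mul ha hc0, Finsupp.add_apply] at h2
    have := hr.factorization_pos_of_dvd hc0 hd
    omega
  by_cases hcen : ∀ g ∈ Cz x, (orderOf g).Coprime p → Cz x ≤ Cz g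
  · refine Or.inl fun r hr hd => by_contra fun hrp => ?_
    haveI := Fact.mk hr
    obtain ⟨T, hT, hTp, hTc⟩ := exists_full' r (Cz x)
    refine hkey r w hr hw hwa T (fun g hg => ?_) hTc hd
    have hwx : w ∈ Cz x := hlt.le (mem_Cz_self w)
    have hco : (orderOf g).Coprime p := by
      obtain ⟨k, hk⟩ := (tel_of_mem hTp hg).exists_orderOf
      rw [hk]; exact Nat.Coprime.pow_left k ((Nat.coprime_primes hr Fact.out).2 hrp)
    exact mem_Cz.2 (mem_Cz.1 (hcen g (hT hg) hco hwx)).symm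
  push Not at hcen
  obtain ⟨u, hu, huco, hune⟩ := hcen
  -- centralisers inside `Cz x` of elements of order prime to `p`
  have hin2 : ∀ g ∈ Cz x, (orderOf g).Coprime p → ¬ Cz x ≤ Cz g →
      ∃ v : G, v ∉ center G ∧ Nat.card (Cz v) = a ∧ Cz v = Cz x ⊓ Cz g := by
    intro g hg hgco hgne
    have hco : (orderOf x).Coprime (orderOf g) := by
      obtain ⟨k, hk⟩ := hxp.exists_orderOf
      rw [hk]; exact (hgco.symm.pow_left k)
    have e := Cz_mul_eq (mem_Cz.1 hg).symm hco
    have hZ : x * g ∉ center G := fun h => hx (mem_center_iff.2 fun y => by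
      have hy : y ∈ Cz x ⊓ Cz g := e ▸ mem_Cz.2 (mem_center_iff.1 h y)
      exact (mem_Cz.1 hy.1).eq)
    have hlt' : Cz (x * g) < Cz x := lt_of_le_of_ne (e ▸ inf_le_left) fun h =>
      hgne (by rw [← h, e]; exact inf_le_right)
    exact ⟨x * g, hZ, (card_of_lt hab hcard hZ hx hlt').1, e⟩
  set H := Cz x with hH
  have hidx : ∀ g : H, (orderOf g).Coprime p →
      (H ≤ Cz (g : G) → (centralizer ({g} : Set H)).index = 1) ∧
      (¬ H ≤ Cz (g : G) → (centralizer ({g} : Set H)).index = c) := by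
    intro g hg
    have e : centralizer ({g} : Set H) = (H ⊓ Cz (g : G)).subgroupOf H := by
      ext k
      simp only [mem_subgroupOf, mem_inf, SetLike.coe_mem, true_and, mem_Cz]
      exact ⟨fun h => congrArg Subtype.val h, fun h => Subtype.ext h.eq⟩
    refine ⟨fun h => ?_, fun h => ?_⟩
    · rw [e, inf_eq_left.2 h, subgroupOf_self, index_top]
    · obtain ⟨v, -, hva, hve⟩ := hin2 g g.2 (by rwa [Subgroup.orderOf_coe]) h
      have h1 := ((H ⊓ Cz (g : G)).subgroupOf H).card_mul_index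
      rw [Nat.card_congr (subgroupOfEquivOfLe (inf_le_left : H ⊓ Cz (g : G) ≤ H)).toEquiv] at h1
      have hcardI : Nat.card (H ⊓ Cz (g : G) : Subgroup G) = a := by rw [← hve, hva]
      rw [hcardI, hxb, ← hc] at h1
      rw [e]
      exact Nat.eq_of_mul_eq_mul_left (Nat.pos_of_ne_zero ha) h1
  have hc1 : c ≠ 1 := fun h => by rw [h, mul_one] at hc; omega
  have h2 : Set.ncard (Set.range fun y : {y : H // (orderOf y).Coprime p} =>
      (ConjClasses.mk (y : H)).carrier.ncard) = 2 := by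
    simp only [CfsgLib.ClassSize.TwoRegular.carrier_ncard]
    rw [Set.ncard_eq_two]
    refine ⟨1, c, hc1.symm, Set.Subset.antisymm ?_ ?_⟩
    · rintro _ ⟨⟨y, hy⟩, rfl⟩
      by_cases h : H ≤ Cz (y : G)
      · exact Or.inl ((hidx y hy).1 h)
      · exact Or.inr ((hidx y hy).2 h)
    · rintro _ (rfl | rfl)
      · exact ⟨⟨1, by simp⟩, (hidx 1 (by simp)).1 fun k _ => mem_Cz.2 (Commute.one_right k)⟩
      · exact ⟨⟨⟨u, hu⟩, by rwa [← Subgroup.orderOf_coe]⟩,
          (hidx ⟨u, hu⟩ (by rwa [← Subgroup.orderOf_coe])).2 hune⟩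
  rcases CfsgLib.ClassSize.TwoRegular.main (Fact.out : p.Prime) h2 with
    ⟨K, hKab, hKp, k, hKk⟩ | ⟨q, hq, P, Q, A, hqp, hA, hPQ, hPQn, hdis, hsup⟩
  · -- an abelian Hall subgroup of `p`-power index
    refine Or.inl fun r hr hd => by_contra fun hrp => ?_
    haveI := Fact.mk hr
    obtain ⟨T, hT, hTp, hTc⟩ := exists_full' r (K.map H.subtype)
    have hfac : (Nat.card (K.map H.subtype)).factorization r = (Nat.card H).factorization r := by
      rw [card_map_of_injective H.subtype_injective, ← K.card_mul_index, hKk,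
        Nat.factorization_mul Nat.card_pos.ne' (pow_ne_zero _ (Fact.out : p.Prime).ne_zero),
        Finsupp.add_apply, (Fact.out : p.Prime).factorization_pow, Finsupp.single_apply,
        if_neg (Ne.symm hrp), add_zero]
    rw [hfac] at hTc
    have hTco : ∀ g ∈ K.map H.subtype, (orderOf g).Coprime p := by
      rintro _ ⟨g, hg, rfl⟩
      rw [coe_subtype, Subgroup.orderOf_coe]
      exact Nat.Coprime.coprime_dvd_left (K.orderOf_dvd_natCard hg)
        ((Nat.Prime.coprime_iff_not_dvd Fact.out).2 hKp).symm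
    by_cases hKc : ∀ g ∈ K.map H.subtype, H ≤ Cz g
    · obtain ⟨v, hv, hva, hve⟩ := hin2 u hu huco hune
      refine hkey r v hr hv hva T (fun g hg => ?_) hTc hd
      rw [hve]
      exact ⟨map_subtype_le _ (hT hg), mem_Cz.2 (mem_Cz.1 (hKc g (hT hg) hu)).symm⟩
    · push Not at hKc
      obtain ⟨g, hg, hgne⟩ := hKc
      obtain ⟨v, hv, hva, hve⟩ := hin2 g (map_subtype_le _ hg) (hTco g hg) hgne
      refine hkey r v hr hv hva T (fun y hy => ?_) hTc hd
      rw [hve]
      obtain ⟨y', hy', rfl⟩ := hT hy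
      obtain ⟨g', hg', rfl⟩ := hg
      exact ⟨y'.2, mem_Cz.2 (congrArg Subtype.val
        (congrArg Subtype.val (hKab.is_comm.comm (⟨y', hy'⟩ : K) ⟨g', hg'⟩)))⟩
  · haveI := hq
    refine Or.inr ⟨q, hq.out, hqp, ?_⟩
    have hother : ∀ (r : ℕ) (g : G), r.Prime → r ≠ p → r ≠ q → g ∈ H → Tel r g → H ≤ Cz g := by
      intro r g hr hrp hrq hg hgr
      haveI := Fact.mk hr
      haveI : A.Normal := ⟨fun z hz k => by
        rwa [mem_center_iff.1 (hA hz) k, mul_inv_cancel_right]⟩
      set S := (P : Subgroup H) ⊔ (Q : Subgroup H) with hS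
      have hsur : Function.Surjective ((QuotientGroup.mk' A).comp S.subtype) := by
        intro y
        obtain ⟨y, rfl⟩ := QuotientGroup.mk'_surjective A y
        obtain ⟨s, hs, z, hz, rfl⟩ := mem_sup_of_normal_right.1 (hsup.symm ▸ mem_top y : y ∈ S ⊔ A)
        refine ⟨⟨s, hs⟩, ?_⟩
        show QuotientGroup.mk' A s = QuotientGroup.mk' A (s * z)
        rw [map_mul, show QuotientGroup.mk' A z = 1 from (QuotientGroup.eq_one_iff _).2 hz, mul_one]
      have hd : Nat.card (H ⧸ A) ∣ Nat.card P * Nat.card Q := hPQ ▸ card_dvd_of_surjective _ hsur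
      obtain ⟨i, hi⟩ := IsPGroup.iff_card.1 P.2
      obtain ⟨j, hj⟩ := IsPGroup.iff_card.1 Q.2
      rw [hi, hj] at hd
      obtain ⟨e, he⟩ := hgr.exists_orderOf
      have hgA : (⟨g, hg⟩ : H) ∈ A := by
        refine (QuotientGroup.eq_one_iff _).1 (orderOf_eq_one_iff.1 (Nat.eq_one_of_dvd_coprimes ?_
          (orderOf_map_dvd (QuotientGroup.mk' A) (⟨g, hg⟩ : H)) ((_root_.orderOf_dvd_natCard _).trans hd)))
        rw [← Subgroup.orderOf_coe, he]
        exact Nat.Coprime.mul_right (Nat.Coprime.pow e i ((Nat.coprime_primes hr Fact.out).2 hrp))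
          (Nat.Coprime.pow e j ((Nat.coprime_primes hr hq.out).2 hrq))
      exact fun y hy => mem_Cz.2 (congrArg Subtype.val (mem_center_iff.1 (hA hgA) ⟨y, hy⟩))
    obtain ⟨v, hv, hva, hve⟩ := hin2 u hu huco hune
    have hwit : ∃ g ∈ H, Tel q g ∧ ¬ H ≤ Cz g := by
      by_contra hno
      push Not at hno
      refine hune fun y hy => mem_Cz.2 ?_
      have hle : ∀ z : zpowers u, z ∈ (centralizer ({y} : Set G)).subgroupOf (zpowers u) := by
        refine CfsgLib.FGStruct.Dedekind.mem_of_primePow ?_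
        rintro z ⟨r, m, hr, hm⟩
        rw [← Subgroup.orderOf_coe] at hm
        have hzH : (z : G) ∈ H := zpowers_le.2 hu z.2
        have hzc : H ≤ Cz (z : G) := by
          by_cases hrq : r = q
          · exact hno _ hzH (hrq ▸ tel_of_orderOf hm)
          by_cases hrp : r = p
          · subst hrp
            have h1 : (z : G) = 1 := eq_one_of_pow_coprime ⟨m, hm⟩
              (Nat.Coprime.coprime_dvd_left (orderOf_dvd_of_mem_zpowers z.2) huco)
            rw [h1]; exact fun k _ => mem_Cz.2 (Commute.one_right k)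
          · exact hother r z hr hrp hrq hzH (tel_of_orderOf hm)
        exact mem_subgroupOf.2 (mem_centralizer_singleton_iff.2 (mem_Cz.1 (hzc hy)).symm.eq)
      exact ((mem_centralizer_singleton_iff.1 (mem_subgroupOf.1 (hle ⟨u, mem_zpowers u⟩))) :
        Commute u y).symm
    refine ⟨?_, hother, hwit⟩
    intro r hr hd
    by_contra hne
    push Not at hne
    haveI := Fact.mk hr
    obtain ⟨T, hT, hTp, hTc⟩ := exists_full' r H
    refine hkey r v hr hv hva T (fun g hg => ?_) hTc hd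
    rw [hve]
    exact ⟨hT hg, mem_Cz.2 (mem_Cz.1 (hother r g hr hne.1 hne.2 (hT hg) (tel_of_mem hTp hg) hu)).symm⟩

/-- The quotient of the orders is a power of one prime, and the others are central inside. -/
theorem second_analysis (hns : ¬ Group.IsSolvable G) {p : ℕ} [Fact p.Prime] {x : G}
    (hx : x ∉ center G) (hxp : Tel p x) (hin : Inside x) :
    ∃ q, q.Prime ∧ (∀ r, r.Prime → r ∣ c → r = q) ∧
      (p ≠ q → ∀ (r : ℕ) (g : G), r.Prime → r ≠ q → g ∈ Cz x → Tel r g → Cz x ≤ Cz g) := by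
  rcases first_analysis hab hcard hc hx hxp hin with h | ⟨q, hq, hqp, hdvd, hother, g, hg, hgq, hgne⟩
  · exact ⟨p, Fact.out, h, fun h' => absurd rfl h'⟩
  obtain ⟨t, ht, htp, htq, z, hzt, hzZ⟩ : ∃ t : ℕ, t.Prime ∧ t ≠ p ∧ t ≠ q ∧ ∃ z : G, Tel t z ∧ z ∉ center G := by
    by_contra hno
    push Not at hno
    exact hns (isSolvable_of_two p q Fact.out hq fun r g hr hrp hrq hg => hno r hr hrp hrq g hg)
  haveI := Fact.mk ht
  haveI := Fact.mk hq
  obtain ⟨y, hy, hyZ, hyt⟩ := exists_noncentral (u := x) hzZ hzt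
    (factorization_of_not_dvd hab hcard hc (fun hd => by rcases hdvd t ht hd with e | e <;> contradiction) hx hzZ)
  have hxy : Cz x = Cz y := by
    obtain ⟨w, hw, hlt⟩ := hin
    exact eq_of_big hab hcard hyZ (card_of_lt hab hcard hw hx hlt).2 (hother t y ht htp htq hy hyt)
  have hiny : Inside y := by
    obtain ⟨w, hw, hlt⟩ := hin
    exact ⟨w, hw, hxy ▸ hlt⟩
  rcases first_analysis hab hcard hc hyZ hyt hiny with h | ⟨q', hq', hq't, hdvd', hother', -⟩
  · exfalso
    have hc1 : c ≠ 1 := fun h => by rw [h, mul_one] at hc; omega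
    obtain ⟨r, hr, hrd⟩ := Nat.exists_prime_and_dvd hc1
    have := h r hr hrd
    subst this
    rcases hdvd r hr hrd with e | e <;> contradiction
  have hq'q : q' = q := by
    by_contra hne
    rw [← hxy] at hother'
    exact hgne (hother' q g hq htq.symm (Ne.symm hne) hg hgq)
  subst hq'q
  refine ⟨q', hq, fun r hr hd => ?_, fun _ r k hr hrq hk hkr => ?_⟩
  · rcases hdvd r hr hd with e | e
    · rcases hdvd' r hr hd with e' | e'
      · exact absurd (e'.symm.trans e) htp
      · exact e'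
    · exact e
  · by_cases hrp : r = p
    · rw [hxy]
      rw [hxy] at hk
      exact hother' r k hr (hrp ▸ htp.symm) hrq hk hkr
    · exact hother r k hr hrp hrq hk hkr

/-- The nested case. -/
theorem isSolvable_of_nested {w x : G} (hw : w ∉ center G) (hx : x ∉ center G) (hlt : Cz w < Cz x) :
    Group.IsSolvable G := by
  by_contra hns
  obtain ⟨p, hp, x', hx', hx'Z, hx'p⟩ := exists_primary hx
  haveI := Fact.mk hp
  have hxb := (card_of_lt hab hcard hw hx hlt).2
  have he : Cz x = Cz x' := eq_of_big hab hcard hx'Z hxb (Cz_le_of_zpowers hx')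
  obtain ⟨q, hq, hcq, -⟩ := second_analysis hab hcard hc hns hx'Z hx'p ⟨w, hw, he ▸ hlt⟩
  have hc1 : c ≠ 1 := fun h => by rw [h, mul_one] at hc; omega
  have hnd : ∀ r : ℕ, r.Prime → r ≠ q → ¬ r ∣ c := fun r hr hrq hd => hrq (hcq r hr hd)
  have hcen : ∀ (s : ℕ) (u : G), s.Prime → s ≠ q → u ∉ center G → Tel s u → Inside u →
      ∀ (r : ℕ) (g : G), r.Prime → r ≠ q → g ∈ Cz u → Tel r g → Cz u ≤ Cz g := by
    intro s u hs hsq hu hus hin
    haveI := Fact.mk hs
    obtain ⟨q', hq', hcq', h⟩ := second_analysis hab hcard hc hns hu hus hin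
    have e : q' = q := by
      obtain ⟨r, hr, hrd⟩ := Nat.exists_prime_and_dvd hc1
      rw [← hcq' r hr hrd, hcq r hr hrd]
    subst e
    exact h hsq
  -- a further prime
  have hthird : ∀ (s : ℕ) (u : G), s.Prime → s ≠ q → u ∉ center G →
      ∃ (t : ℕ) (y : G), t.Prime ∧ t ≠ q ∧ t ≠ s ∧ y ∈ Cz u ∧ y ∉ center G ∧ Tel t y := by
    intro s u hs hsq hu
    obtain ⟨t, ht, hts, htq, z, hzt, hzZ⟩ : ∃ t : ℕ, t.Prime ∧ t ≠ s ∧ t ≠ q ∧ ∃ z : G, Tel t z ∧ z ∉ center G := by
      by_contra hno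
      push Not at hno
      exact hns (isSolvable_of_two s q hs hq fun r g hr hrs hrq hg => hno r hr hrs hrq g hg)
    haveI := Fact.mk ht
    obtain ⟨y, hy, hyZ, hyt⟩ := exists_noncentral (u := u) hzZ hzt
      (factorization_of_not_dvd hab hcard hc (hnd t ht htq) hu hzZ)
    exact ⟨t, y, ht, htq, hts, hy, hyZ, hyt⟩
  have claim : ∀ (s : ℕ) (u : G), s.Prime → s ≠ q → u ∉ center G → Tel s u →
      ∀ (r : ℕ) (g : G), r.Prime → r ≠ q → g ∈ Cz u → Tel r g → Cz u ≤ Cz g := by
    intro s u hs hsq hu hus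
    by_cases hin : Inside u
    · exact hcen s u hs hsq hu hus hin
    have hother : ∀ (s : ℕ) (v : G), s.Prime → v ∉ center G → Tel s v → Cz v = Cz u →
        ∀ (r : ℕ) (g : G), r.Prime → r ≠ s → g ∈ Cz v → Tel r g → Cz v ≤ Cz g := by
      intro s v hs hv hvs hvu r g hr hrs hg hgr
      haveI := Fact.mk hs
      haveI := Fact.mk hr
      obtain ⟨hZ, e⟩ := notMem_mul (Ne.symm hrs) hv hvs hgr (mem_Cz.1 hg).symm
      by_contra hle
      refine hin ⟨v * g, hZ, hvu ▸ lt_of_le_of_ne (e ▸ inf_le_left) fun h => hle ?_⟩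
      rw [← h, e]; exact inf_le_right
    intro r g hr hrq hg hgr
    by_cases hrs : r = s
    swap
    · exact hother s u hs hu hus rfl r g hr hrs hg hgr
    subst hrs
    obtain ⟨t, y, ht, htq, hts, hy, hyZ, hyt⟩ := hthird r u hr hrq hu
    have hle := hother r u hr hu hus rfl t y ht hts hy hyt
    have hyu : Cz y = Cz u := by
      rcases hcard u hu with h | h
      · by_contra hne
        have hlt' : Cz u < Cz y := lt_of_le_of_ne hle (Ne.symm hne)
        have h1 := hcen t y ht htq hyZ hyt ⟨u, hu, hlt'⟩ r u hr hrq (hlt'.le (mem_Cz_self u)) hus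
        exact hlt'.ne (le_antisymm hlt'.le h1)
      · exact (eq_of_big hab hcard hyZ h hle).symm
    exact hyu ▸ hother t y ht hyZ hyt hyu r g hr (Ne.symm hts) (hyu.symm ▸ hg) hgr
  have hB : Blk G q := by
    rintro u v ⟨hu, s, hs, hsq, hus⟩ ⟨hv, r, hr, hrq, hvr⟩ huv
    exact le_antisymm (claim s u hs hsq hu hus r v hr hrq (mem_Cz.2 huv.symm) hvr)
      (claim r v hr hrq hv hvr s u hs hsq (mem_Cz.2 huv) hus)
  refine hns (isSolvable_of_const hB ?_ hq)
  intro u v hu hv t ht htq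
  haveI := Fact.mk ht
  rw [hB.card_tp htq hu, hB.card_tp htq hv, factorization_of_not_dvd hab hcard hc (hnd t ht htq) hu.1 hv.1]

omit hc

/-- A centraliser with a single noncentral prime, without nesting. -/
theorem isSolvable_of_single (hF : ∀ x y : G, x ∉ center G → y ∉ center G → Cz x ≤ Cz y → Cz x = Cz y)
    {p : ℕ} (hp : p.Prime) {x : G} (hx : x ∉ center G)
    (hone : ∀ (s : ℕ) (g : G), s.Prime → s ≠ p → g ∈ Cz x → Tel s g → g ∈ center G) :
    Group.IsSolvable G := by
  by_contra hns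
  have hne : ∀ (s : ℕ) (u : G), s.Prime → s ≠ p → u ∉ center G → Tel s u →
      Nat.card (Cz u) ≠ Nat.card (Cz x) := by
    intro s u hs hsp hu hus he
    haveI := Fact.mk hs
    obtain ⟨y, hy, hyZ, hys⟩ := exists_noncentral (u := x) hu hus (by rw [he])
    exact hyZ (hone s y hs hsp hy hys)
  have hsame : ∀ (s t : ℕ) (u v : G), s.Prime → s ≠ p → u ∉ center G → Tel s u → t.Prime → t ≠ p →
      v ∉ center G → Tel t v → Nat.card (Cz u) = Nat.card (Cz v) := by
    intro s t u v hs hsp hu hus ht htp hv hvt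
    have h1 := hne s u hs hsp hu hus
    have h2 := hne t v ht htp hv hvt
    rcases hcard u hu with a1 | a1 <;> rcases hcard v hv with a2 | a2 <;>
      rcases hcard x hx with a3 | a3 <;> omega
  have hcop : ∀ (s r : ℕ) (u g : G), s.Prime → r.Prime → r ≠ s → u ∉ center G → Tel s u → Tel r g →
      g ∈ Cz u → Cz u ≤ Cz g := by
    intro s r u g hs hr hrs hu hus hgr hg
    haveI := Fact.mk hs
    haveI := Fact.mk hr
    obtain ⟨hZ, e⟩ := notMem_mul (Ne.symm hrs) hu hus hgr (mem_Cz.1 hg).symm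
    have := hF _ u hZ hu (e ▸ inf_le_left)
    rw [← this, e]; exact inf_le_right
  have hB : Blk G p := by
    rintro u v ⟨hu, s, hs, hsp, hus⟩ ⟨hv, r, hr, hrp, hvr⟩ huv
    by_cases hrs : r = s
    swap
    · exact hF u v hu hv (hcop s r u v hs hr hrs hu hus hvr (mem_Cz.2 huv.symm))
    subst hrs
    obtain ⟨t, ht, htr, htp, z, hzt, hzZ⟩ : ∃ t : ℕ, t.Prime ∧ t ≠ r ∧ t ≠ p ∧ ∃ z : G, Tel t z ∧ z ∉ center G := by
      by_contra hno
      push Not at hno
      exact hns (isSolvable_of_two r p hr hp fun k g hk hkr hkp hg => hno k hk hkr hkp g hg)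
    haveI := Fact.mk ht
    obtain ⟨y, hy, hyZ, hyt⟩ := exists_noncentral (u := u) hzZ hzt
      (by rw [hsame r t u z hr hsp hu hus ht htp hzZ hzt])
    have e := hF u y hu hyZ (hcop r t u y hr ht htr hu hus hyt hy)
    refine hF u v hu hv ?_
    rw [e]
    exact hcop t r y v ht hr (Ne.symm htr) hyZ hyt hvr (e ▸ mem_Cz.2 huv.symm)
  refine hns (isSolvable_of_const hB ?_ hp)
  rintro u v ⟨hu, s, hs, hsp, hus⟩ ⟨hv, r, hr, hrp, hvr⟩ t ht htp
  haveI := Fact.mk ht
  exact card_eq_factorization hB htp ⟨hu, s, hs, hsp, hus⟩ ⟨hv, r, hr, hrp, hvr⟩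
    (hsame s r u v hs hsp hu hus hr hrp hv hvr)

/-- The case without nested centralisers. -/
theorem isSolvable_of_flat (hF : ∀ x y : G, x ∉ center G → y ∉ center G → Cz x ≤ Cz y → Cz x = Cz y)
    {xa xb : G} (hxa : xa ∉ center G) (hxa' : Nat.card (Cz xa) = a) (hxb : xb ∉ center G)
    (hxb' : Nat.card (Cz xb) = b) : Group.IsSolvable G := by
  by_cases hone : ∃ (p : ℕ) (x : G), p.Prime ∧ x ∉ center G ∧
      ∀ (s : ℕ) (g : G), s.Prime → s ≠ p → g ∈ Cz x → Tel s g → g ∈ center G
  · obtain ⟨p, x, hp, hx, h⟩ := hone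
    exact isSolvable_of_single hab hcard hF hp hx h
  push Not at hone
  have hcop : ∀ (s r : ℕ) (u g : G), s.Prime → r.Prime → r ≠ s → u ∉ center G → Tel s u → Tel r g →
      g ∈ Cz u → Cz u ≤ Cz g := by
    intro s r u g hs hr hrs hu hus hgr hg
    haveI := Fact.mk hs
    haveI := Fact.mk hr
    obtain ⟨hZ, e⟩ := notMem_mul (Ne.symm hrs) hu hus hgr (mem_Cz.1 hg).symm
    have := hF _ u hZ hu (e ▸ inf_le_left)
    rw [← this, e]; exact inf_le_right
  have habel : ∀ x : G, x ∉ center G → ∀ g k : G, g ∈ Cz x → k ∈ Cz x → Commute g k := by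
    intro x hx g k hg hk
    obtain ⟨s, hs, u, hu, huZ, hus⟩ := exists_primary hx
    have e := hF x u hx huZ (Cz_le_of_zpowers hu)
    rw [e] at hg hk
    obtain ⟨t, y, ht, hts, hy, hyt, hyZ⟩ := hone s u hs huZ
    have hyu := hF u y huZ hyZ (hcop s t u y hs ht hts huZ hus hyt hy)
    refine commute_of_primary (C := Cz u) ?_ hg hk
    intro r r' g k hr hr' hg hk hgr hkr
    by_cases hrs : r = s
    · have h := hcop t r y g ht hr (hrs ▸ hts.symm) hyZ hyt hgr (hyu ▸ hg)
      exact (mem_Cz.1 (h (hyu ▸ hk))).symm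
    · exact (mem_Cz.1 (hcop s r u g hs hr hrs huZ hus hgr hg hk)).symm
  have hA : ∀ x y : G, x ∉ center G → y ∉ center G → Commute x y → Cz x = Cz y := fun x y hx hy h =>
    hF x y hx hy fun g hg => mem_Cz.2 (habel x hx g y hg (mem_Cz.2 h.symm))
  refine isSolvable_of_two_types hA ?_ (Nat.ne_of_lt hab) hcard hxa hxa' hxb hxb'
  intro x hx p
  obtain ⟨p', hp', hpp⟩ : ∃ p' : ℕ, p'.Prime ∧ (p.Prime → p' = p) := by
    by_cases h : p.Prime
    · exact ⟨p, h, fun _ => rfl⟩
    · exact ⟨2, Nat.prime_two, fun h' => absurd h' h⟩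
  obtain ⟨r, g, hr, hrp, hg, hgr, hgZ⟩ := hone p' x hp' hx
  refine ⟨r, hr, fun e => hrp ?_, fun h => hgZ (h ((mem_tp' hA hx).2 ⟨hgr, mem_Cz.1 hg⟩))⟩
  subst e
  exact (hpp hr).symm

end Sizes

/-- A group with three class sizes is solvable. -/
theorem isSolvable_of_three {n₁ n₂ : ℕ} (h12 : n₂ < n₁) (h2 : 1 < n₂)
    (h : ∀ x : G, (Cz x).index = 1 ∨ (Cz x).index = n₂ ∨ (Cz x).index = n₁)
    (h₁ : ∃ x : G, (Cz x).index = n₁) (h₂ : ∃ x : G, (Cz x).index = n₂) : Group.IsSolvable G := by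
  obtain ⟨x₁, hx₁⟩ := h₁
  obtain ⟨x₂, hx₂⟩ := h₂
  have hne : ∀ {x : G}, (Cz x).index ≠ 1 → x ∉ center G := fun hx hZ => hx ((index_Cz_eq_one_iff _).2 hZ)
  have hx₁Z : x₁ ∉ center G := hne (by omega)
  have hx₂Z : x₂ ∉ center G := hne (by omega)
  have e1 := (Cz x₁).card_mul_index
  have e2 := (Cz x₂).card_mul_index
  rw [hx₁] at e1
  rw [hx₂] at e2
  have hab : Nat.card (Cz x₁) < Nat.card (Cz x₂) := by
    by_contra hge
    push Not at hge
    have : Nat.card (Cz x₂) * n₂ < Nat.card (Cz x₁) * n₁ :=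
      lt_of_lt_of_le (Nat.mul_lt_mul_of_pos_left h12 Nat.card_pos) (Nat.mul_le_mul_right n₁ hge)
    omega
  have hcard : ∀ x : G, x ∉ center G →
      Nat.card (Cz x) = Nat.card (Cz x₁) ∨ Nat.card (Cz x) = Nat.card (Cz x₂) := by
    intro x hx
    have e := (Cz x).card_mul_index
    rcases h x with h' | h' | h'
    · exact absurd ((index_Cz_eq_one_iff x).1 h') hx
    · rw [h', ← e2] at e
      exact Or.inr (Nat.eq_of_mul_eq_mul_right (by omega) e)
    · rw [h', ← e1] at e
      exact Or.inl (Nat.eq_of_mul_eq_mul_right (by omega) e)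
  by_cases hnest : ∃ w x : G, w ∉ center G ∧ x ∉ center G ∧ Cz w < Cz x
  · obtain ⟨w, x, hw, hx, hlt⟩ := hnest
    obtain ⟨hwa, hxb⟩ := card_of_lt hab hcard hw hx hlt
    obtain ⟨c, hc⟩ := card_dvd_of_le hlt.le
    rw [hwa, hxb] at hc
    exact isSolvable_of_nested hab hcard hc.symm hw hx hlt
  · push Not at hnest
    exact isSolvable_of_flat hab hcard (fun x y hx hy hle => by_contra fun hne' =>
      hnest x y hx hy (lt_of_le_of_ne hle hne')) hx₁Z rfl hx₂Z rfl

end CfsgLib.ThreeClass
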